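import Mathlib
import Cfsg.Agent.S0547

/-!
# The order of a solvable permutation group
-/

set_option autoImplicit false

namespace Cfsg.Agent.ClassNumber

open MulAction
open scoped Pointwise

/-- the table for at most six points -/
def small : ℕ → ℕ
  | 0 => 1
  | 1 => 1
  | 2 => 2
  | 3 => 6
  | 4 => 24
  | 5 => 24
  | _ => 72

/-- the bound on `n` points -/
def Good (n t : ℕ) : Prop := 24 * t ^ 3 ≤ 24 ^ n ∧ (n ≤ 6 → t ≤ small n)

theorem Good.mono {n t t' : ℕ} (h : Good n t) (ht : t' ≤ t) : Good n t' :=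
  ⟨le_trans (Nat.mul_le_mul_left _ (Nat.pow_le_pow_left ht 3)) h.1, fun hn => ht.trans (h.2 hn)⟩

theorem Good.add {b c s t : ℕ} (hb : 1 ≤ b) (hc : 1 ≤ c) (h1 : Good b s) (h2 : Good c t) :
    Good (b + c) (s * t) := by
  refine ⟨?_, fun hn => ?_⟩
  · calc 24 * (s * t) ^ 3 ≤ (24 * s ^ 3) * (24 * t ^ 3) := by
          rw [mul_pow]
          nlinarith [Nat.zero_le (s ^ 3 * t ^ 3)]
      _ ≤ 24 ^ b * 24 ^ c := Nat.mul_le_mul h1.1 h2.1
      _ = _ := (pow_add _ _ _).symm
  · have := Nat.mul_le_mul (h1.2 (by omega)) (h2.2 (by omega))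
    refine this.trans ?_
    have hb6 : b ≤ 5 := by omega
    have hc6 : c ≤ 5 := by omega
    interval_cases b <;> interval_cases c <;> simp_all [small]

theorem Good.wreath {b c s t : ℕ} (hb : 2 ≤ b) (hc : 2 ≤ c) (h1 : Good b s) (h2 : Good c t) :
    Good (b * c) (s ^ c * t) := by
  refine ⟨?_, fun hn => ?_⟩
  · calc 24 * (s ^ c * t) ^ 3 = (s ^ 3) ^ c * (24 * t ^ 3) := by ring
      _ ≤ (s ^ 3) ^ c * 24 ^ c := Nat.mul_le_mul_left _ h2.1
      _ = (24 * s ^ 3) ^ c := by ring
      _ ≤ (24 ^ b) ^ c := Nat.pow_le_pow_left h1.1 c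
      _ = _ := (pow_mul _ _ _).symm
  · have hb3 : b ≤ 3 := by nlinarith
    have hc3 : c ≤ 3 := by nlinarith
    have := Nat.mul_le_mul (Nat.pow_le_pow_left (h1.2 (by omega)) c) (h2.2 (by omega))
    refine this.trans ?_
    interval_cases b <;> interval_cases c <;> simp_all [small]

section AutBound

variable {M : Type*} [Group M] [Finite M]

/-- automorphisms fixing a subgroup pointwise: one more point -/
theorem aut_step (S : Subgroup (MulAut M)) (U : Subgroup M) (hS : ∀ φ ∈ S, ∀ u ∈ U, φ u = u)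
    {x : M} (hx : x ∉ U) :
    ∃ S' : Subgroup (MulAut M), (∀ φ ∈ S', ∀ u ∈ U ⊔ Subgroup.zpowers x, φ u = u) ∧
      Nat.card S ≤ (Nat.card M - Nat.card U) * Nat.card S' := by
  classical
  let S' : Subgroup (MulAut M) :=
    { carrier := {φ | φ ∈ S ∧ φ x = x}
      one_mem' := ⟨S.one_mem, rfl⟩
      mul_mem' := fun {a b} ha hb => ⟨S.mul_mem ha.1 hb.1, by
        show a (b x) = x
        rw [hb.2, ha.2]⟩
      inv_mem' := fun {a} ha => ⟨S.inv_mem ha.1, by
        show a.symm x = x
        rw [MulEquiv.symm_apply_eq, ha.2]⟩ }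
  refine ⟨S', fun φ hφ u hu => ?_, ?_⟩
  · have hle : U ⊔ Subgroup.zpowers x ≤ φ.toMonoidHom.eqLocus (MonoidHom.id M) :=
      sup_le (fun a ha => hS φ hφ.1 a ha) (Subgroup.zpowers_le.2 hφ.2)
    exact hle hu
  · have h1 : (S : Set (MulAut M)).ncard ≤
        ((fun φ : MulAut M => φ x) '' S).ncard * Nat.card S' := by
      have := Set.toFinite (S : Set (MulAut M))
      lift (S : Set (MulAut M)) to Finset (MulAut M) using this with F hF
      rw [← Finset.coe_image, Set.ncard_coe_finset, Set.ncard_coe_finset, mul_comm]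
      refine Finset.card_le_mul_card_image _ _ fun b hb => ?_
      obtain ⟨a, ha, rfl⟩ := Finset.mem_image.1 hb
      rw [← Nat.card_eq_finsetCard]
      have haS : a ∈ S := by rw [← SetLike.mem_coe, ← hF]; exact ha
      refine Nat.card_le_card_of_injective
        (fun φ => (⟨a⁻¹ * φ.1, ?_⟩ : S')) fun φ ψ h => ?_
      · obtain ⟨hφ, he⟩ := Finset.mem_filter.1 φ.2
        refine ⟨S.mul_mem (S.inv_mem haS) (by rw [← SetLike.mem_coe, ← hF]; exact hφ), ?_⟩
        show a.symm (φ.1 x) = x
        rw [he, MulEquiv.symm_apply_apply]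
      · exact Subtype.ext (mul_left_cancel (congrArg Subtype.val h))
    have h2 : ((fun φ : MulAut M => φ x) '' S).ncard ≤ Nat.card M - Nat.card U := by
      refine le_trans (Set.ncard_le_ncard (t := (U : Set M)ᶜ) ?_ (Set.toFinite _))
        (le_of_eq ?_)
      · rintro _ ⟨φ, hφ, rfl⟩ hm
        refine hx ?_
        have h := hS φ⁻¹ (S.inv_mem hφ) _ hm
        have e : φ⁻¹ (φ x) = x := φ.symm_apply_apply x
        rw [e] at h
        rwa [h]
      · rw [Set.ncard_compl]
        rfl
    exact h1.trans (Nat.mul_le_mul_right _ h2)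

theorem two_mul_le (U : Subgroup M) {x : M} (hx : x ∉ U) :
    2 * Nat.card U ≤ Nat.card (U ⊔ Subgroup.zpowers x : Subgroup M) := by
  set V := U ⊔ Subgroup.zpowers x with hV
  have hlt : U.relIndex V ≠ 1 := fun h =>
    hx (Subgroup.relIndex_eq_one.1 h (Subgroup.mem_sup_right (Subgroup.mem_zpowers x)))
  have h := Subgroup.card_mul_index (U.subgroupOf V)
  have hc : Nat.card (U.subgroupOf V) = Nat.card U :=
    Nat.card_congr (Subgroup.subgroupOfEquivOfLe le_sup_left).toEquiv
  rw [hc] at h
  have hi : 2 ≤ (U.subgroupOf V).index := by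
    have := (U.subgroupOf V).index_ne_zero_of_finite
    have : (U.subgroupOf V).index ≠ 1 := hlt
    omega
  rw [← h, mul_comm]
  exact Nat.mul_le_mul_left _ hi

theorem aut_pow (h2M : 2 ≤ Nat.card M) (j : ℕ) : ∀ (S : Subgroup (MulAut M)) (U : Subgroup M),
    (∀ φ ∈ S, ∀ u ∈ U, φ u = u) → Nat.card M < Nat.card U * 2 ^ (j + 1) →
      Nat.card S ≤ (Nat.card M - 1) ^ j := by
  have htop : ∀ (S : Subgroup (MulAut M)) (U : Subgroup M),
      (∀ φ ∈ S, ∀ u ∈ U, φ u = u) → (∀ x, x ∈ U) → Nat.card S = 1 := fun S U h hU => by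
    refine Subgroup.card_eq_one.2 ((Subgroup.eq_bot_iff_forall _).2 fun φ hφ => ?_)
    exact MulEquiv.ext fun x => h φ hφ x (hU x)
  induction j with
  | zero =>
    intro S U hS hlt
    refine le_of_eq ((htop S U hS fun x => ?_).trans (pow_zero _).symm)
    by_contra hx
    have h1 := two_mul_le U hx
    have h2 := (U ⊔ Subgroup.zpowers x).card_le_card_group
    omega
  | succ j ih =>
    intro S U hS hlt
    by_cases hU : ∀ x, x ∈ U
    · rw [htop S U hS hU]
      exact Nat.one_le_pow _ _ (by omega)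
    · push Not at hU
      obtain ⟨x, hx⟩ := hU
      obtain ⟨S', hS', hle⟩ := aut_step S U hS hx
      refine hle.trans ?_
      rw [pow_succ']
      refine Nat.mul_le_mul (by have := Nat.card_pos (α := U); omega) (ih S' _ hS' ?_)
      calc Nat.card M < Nat.card U * 2 ^ (j + 1 + 1) := hlt
        _ = 2 * Nat.card U * 2 ^ (j + 1) := by ring
        _ ≤ _ := Nat.mul_le_mul_right _ (two_mul_le U hx)

/-- automorphisms of a group of order eight -/
theorem aut_eight (S : Subgroup (MulAut M)) (h8 : Nat.card M = 8) : Nat.card S ≤ 168 := by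
  have key : ∀ (S : Subgroup (MulAut M)) (U : Subgroup M) (t : ℕ),
      (∀ φ ∈ S, ∀ u ∈ U, φ u = u) → t ≤ Nat.card U → t ≤ 4 →
        ∃ S' : Subgroup (MulAut M), ∃ U' : Subgroup M, (∀ φ ∈ S', ∀ u ∈ U', φ u = u) ∧
          2 * t ≤ Nat.card U' ∧ Nat.card S ≤ (8 - t) * Nat.card S' := by
    intro S U t hS ht ht4
    by_cases hU : ∀ x, x ∈ U
    · refine ⟨S, U, hS, ?_, Nat.le_mul_of_pos_left _ (by omega)⟩
      rw [(Subgroup.eq_top_iff' U).2 hU, Subgroup.card_top, h8]
      omega
    · push Not at hU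
      obtain ⟨x, hx⟩ := hU
      obtain ⟨S', hS', hle⟩ := aut_step S U hS hx
      refine ⟨S', _, hS', le_trans (by omega) (two_mul_le U hx), hle.trans ?_⟩
      rw [h8]
      exact Nat.mul_le_mul_right _ (by omega)
  obtain ⟨S1, U1, h1, hc1, hl1⟩ := key S ⊥ 1 (fun φ _ u hu => by
    rw [Subgroup.mem_bot.1 hu, map_one]) (by simp) (by omega)
  obtain ⟨S2, U2, h2, hc2, hl2⟩ := key S1 U1 2 h1 (by omega) (by omega)
  obtain ⟨S3, U3, h3, hc3, hl3⟩ := key S2 U2 4 h2 (by omega) (by omega)
  have h4 := aut_pow (by omega) 0 S3 U3 h3 (by omega)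
  rw [pow_zero] at h4
  calc Nat.card S ≤ (8 - 1) * Nat.card S1 := hl1
    _ ≤ (8 - 1) * ((8 - 2) * Nat.card S2) := Nat.mul_le_mul_left _ hl2
    _ ≤ (8 - 1) * ((8 - 2) * ((8 - 4) * Nat.card S3)) := by gcongr
    _ ≤ (8 - 1) * ((8 - 2) * ((8 - 4) * 1)) := by gcongr
    _ = _ := by norm_num

/-- automorphisms of a group of prime order -/
theorem aut_prime (S : Subgroup (MulAut M)) (hp : (Nat.card M).Prime) :
    Nat.card S ≤ Nat.card M - 1 := by
  haveI := Fact.mk hp
  obtain ⟨x, hx⟩ : ∃ x : M, x ∉ (⊥ : Subgroup M) := by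
    by_contra h
    push Not at h
    have : Nat.card (⊥ : Subgroup M) = Nat.card M := by
      rw [(Subgroup.eq_top_iff' _).2 h, Subgroup.card_top]
    have := hp.two_le
    simp at *
    omega
  obtain ⟨S', hS', hle⟩ := aut_step S ⊥ (fun φ _ u hu => by
    rw [Subgroup.mem_bot.1 hu, map_one]) hx
  have htop : Subgroup.zpowers x = ⊤ :=
    zpowers_eq_top_of_prime_card rfl (fun h => hx (Subgroup.mem_bot.2 h))
  have hS1 : Nat.card S' = 1 :=
    Subgroup.card_eq_one.2 ((Subgroup.eq_bot_iff_forall _).2 fun φ hφ => MulEquiv.ext fun y =>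
      hS' φ hφ y (Subgroup.mem_sup_right (htop ▸ Subgroup.mem_top y)))
  rw [hS1, mul_one, Subgroup.card_bot] at hle
  exact hle

end AutBound

theorem big_arith : ∀ L, 5 ≤ L → 6 * (L + 1) ^ 2 + 10 ≤ 9 * 2 ^ L := by
  intro L hL
  induction L, hL using Nat.le_induction with
  | base => norm_num
  | succ L hL ih => rw [pow_succ 2]; nlinarith

theorem prim_good {n s : ℕ} (h9 : 9 ≤ n) (hs : s ≤ (n - 1) ^ Nat.log 2 n) :
    Good n (n * s) := by
  refine ⟨le_trans (Nat.mul_le_mul_left _ (Nat.pow_le_pow_left (Nat.mul_le_mul_left _ hs) 3)) ?_,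
    fun h => absurd h (by omega)⟩
  by_cases h32 : n < 32
  · have h1 : 3 ≤ Nat.log 2 n := Nat.le_log_of_pow_le (by norm_num) (by omega)
    have h2 : Nat.log 2 n < 5 := Nat.log_lt_of_lt_pow (by omega) (by omega)
    by_cases h16 : n < 16
    · rw [show Nat.log 2 n = 3 from le_antisymm
        (Nat.le_of_lt_succ (Nat.log_lt_of_lt_pow (by omega) (by omega))) h1]
      interval_cases n <;> norm_num
    · rw [show Nat.log 2 n = 4 from le_antisymm (by omega)
        (Nat.le_log_of_pow_le (by norm_num) (by omega))]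
      interval_cases n <;> norm_num
  · have hL : 5 ≤ Nat.log 2 n := Nat.le_log_of_pow_le (by norm_num) (by omega)
    have hlo : 2 ^ Nat.log 2 n ≤ n := Nat.pow_log_le_self 2 (by omega)
    have hhi : n ≤ 2 ^ (Nat.log 2 n + 1) := (Nat.lt_pow_succ_log_self (by norm_num) n).le
    have hb := big_arith _ hL
    generalize Nat.log 2 n = L at hL hlo hhi hb ⊢
    refine (Nat.pow_le_pow_iff_left (n := 2) two_ne_zero).1 ?_
    calc (24 * (n * (n - 1) ^ L) ^ 3) ^ 2
        ≤ (2 ^ 5 * (2 ^ (L + 1) * (2 ^ (L + 1)) ^ L) ^ 3) ^ 2 := by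
          gcongr
          · norm_num
          · omega
      _ = 2 ^ (6 * (L + 1) ^ 2 + 10) := by
          simp only [← pow_mul, ← pow_add]
          ring_nf
      _ ≤ 2 ^ (9 * 2 ^ L) := Nat.pow_le_pow_right (by norm_num) hb
      _ ≤ 2 ^ (9 * n) := Nat.pow_le_pow_right (by norm_num) (by omega)
      _ ≤ (24 ^ 2) ^ n := by rw [pow_mul]; exact Nat.pow_le_pow_left (by norm_num) n
      _ = (24 ^ n) ^ 2 := by rw [← pow_mul, ← pow_mul, mul_comm]

universe u

/-- the induction -/
theorem perm_good : ∀ (n : ℕ) (X : Type u) [Finite X] (T : Subgroup (Equiv.Perm X)),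
    Group.IsSolvable T → Nat.card X = n → 1 ≤ n → Good n (Nat.card T) := by
  intro n
  induction n using Nat.strong_induction_on with
  | h n ih => ?_
  intro X _ T hsol hX hn
  haveI := hsol
  haveI : Finite T := inferInstance
  -- actions of `T` on smaller sets
  have act : ∀ (Y : Type u) [Finite Y] [MulAction T Y], Nat.card Y < n → 1 ≤ Nat.card Y →
      Good (Nat.card Y) (Nat.card (MulAction.toPermHom T Y).range) := fun Y _ _ h1 h2 =>
    ih _ h1 Y _ (solvable_of_surjective (MonoidHom.rangeRestrict_surjective _)) rfl h2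
  haveI hne : Nonempty X := (Nat.card_pos_iff.1 (by omega)).1
  by_cases h4 : n ≤ 4
  · have h1 : Nat.card T ≤ n.factorial := by
      refine T.card_le_card_group.trans (le_of_eq ?_)
      rw [Nat.card_perm, hX]
    interval_cases n <;> refine Good.mono ⟨?_, ?_⟩ h1 <;> simp [small, Nat.factorial]
  by_cases htr : IsPretransitive T X
  swap
  · obtain ⟨x⟩ := hne
    let O : SubMulAction T X :=
      { carrier := orbit T x
        smul_mem' := fun c y hy => by
          rw [← orbit_eq_iff.2 hy]
          exact mem_orbit y c }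
    let O' : SubMulAction T X :=
      { carrier := (orbit T x)ᶜ
        smul_mem' := fun c y hy h => hy (by
          have := O.smul_mem c⁻¹ h
          rwa [inv_smul_smul] at this) }
    have hcard : Nat.card O + Nat.card O' = n := by
      rw [← hX]
      exact Set.ncard_add_ncard_compl (orbit T x) (Set.toFinite _) (Set.toFinite _)
    have hO : 1 ≤ Nat.card O := by
      haveI : Nonempty O := ⟨⟨x, mem_orbit_self x⟩⟩
      exact Nat.card_pos
    have hO' : 1 ≤ Nat.card O' := by
      obtain ⟨y, hy⟩ : ∃ y, y ∉ orbit T x := by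
        by_contra h
        push Not at h
        exact htr ⟨fun a b => by
          obtain ⟨g, hg⟩ := h a
          obtain ⟨k, hk⟩ := h b
          exact ⟨k * g⁻¹, by rw [← hg, ← hk]; simp [mul_smul]⟩⟩
      haveI : Nonempty O' := ⟨⟨y, hy⟩⟩
      exact Nat.card_pos
    have g1 := act O (by omega) hO
    have g2 := act O' (by omega) hO'
    rw [← hcard]
    refine (g1.add hO hO' g2).mono ?_
    rw [← Nat.card_prod]
    refine Nat.card_le_card_of_injective (fun t => (((MulAction.toPermHom T O).rangeRestrict t),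
      ((MulAction.toPermHom T O').rangeRestrict t))) fun s t h => ?_
    refine eq_of_smul_eq_smul (α := X) fun y => ?_
    by_cases hy : y ∈ orbit T x
    · exact congrArg Subtype.val (DFunLike.congr_fun (congrArg Subtype.val (congrArg Prod.fst h))
        (⟨y, hy⟩ : O))
    · exact congrArg Subtype.val (DFunLike.congr_fun (congrArg Subtype.val (congrArg Prod.snd h))
        (⟨y, hy⟩ : O'))
  haveI := htr
  by_cases hpr : IsPreprimitive T X
  · haveI := hpr
    haveI : Nontrivial T := by
      by_contra h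
      rw [not_nontrivial_iff_subsingleton] at h
      obtain ⟨a, b, hab⟩ : ∃ a b : X, a ≠ b := by
        haveI : Nontrivial X := Finite.one_lt_card_iff_nontrivial.1 (by omega)
        exact exists_pair_ne X
      obtain ⟨g, hg⟩ := exists_smul_eq T a b
      rw [Subsingleton.elim g 1, one_smul] at hg
      exact hab hg
    obtain ⟨M, -, ⟨hMn, hM⟩, hmin⟩ := exists_minimal_le_of_wellFoundedLT
      (fun M : Subgroup T => M.Normal ∧ M ≠ ⊥) ⊤ ⟨inferInstance, top_ne_bot⟩
    haveI := hMn
    obtain ⟨hMt, hreg, r, k, hr, hk, hnX, hMc⟩ := Cfsg.Agent.S0547.result hpr M hM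
      (fun K hK hKM => by
        by_cases h : K = ⊥
        · exact Or.inl h
        · exact Or.inr (le_antisymm hKM (hmin ⟨hK, h⟩ hKM)))
    obtain ⟨x⟩ := hne
    have hidx : (stabilizer T x).index = n := by
      rw [index_stabilizer_of_transitive, hX]
    have hT : Nat.card T = n * Nat.card (stabilizer T x) := by
      rw [← hidx, mul_comm, Subgroup.card_mul_index]
    let conj : stabilizer T x →* MulAut M :=
      (MulAut.conjNormal (H := M)).comp (stabilizer T x).subtype
    have hinj : Function.Injective conj := by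
      rw [injective_iff_map_eq_one]
      intro s hs
      refine Subtype.ext ?_
      refine eq_of_smul_eq_smul (α := X) fun y => ?_
      obtain ⟨m, rfl⟩ := exists_smul_eq M x y
      have h1 : ((conj s) m : T) = m := by rw [hs]; rfl
      change (s : T) * (m : T) * (s : T)⁻¹ = m at h1
      show (s : T) • (m : T) • x = (1 : T) • (m : T) • x
      rw [one_smul, ← mul_smul, mul_inv_eq_iff_eq_mul.1 h1, mul_smul,
        show (s : T) • x = x from s.2]
    have hA : Nat.card (stabilizer T x) = Nat.card conj.range :=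
      Nat.card_congr (MonoidHom.ofInjective hinj).toEquiv
    have hMn' : Nat.card M = n := by omega
    rw [hT, hA]
    rcases (show n = 5 ∨ n = 6 ∨ n = 7 ∨ n = 8 ∨ 9 ≤ n by omega) with h | h | h | h | h
    · have := aut_prime conj.range (by rw [hMn', h]; norm_num)
      rw [hMn'] at this
      subst h
      exact Good.mono (t := 5 * 4) ⟨by norm_num, fun _ => by norm_num [small]⟩
        (Nat.mul_le_mul_left _ this)
    · exfalso
      have h2 : 2 ∣ r ^ k := ⟨3, by omega⟩
      have h3 : 3 ∣ r ^ k := ⟨2, by omega⟩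
      have e2 := (Nat.prime_dvd_prime_iff_eq Nat.prime_two hr).1
        (Nat.prime_two.dvd_of_dvd_pow h2)
      have e3 := (Nat.prime_dvd_prime_iff_eq Nat.prime_three hr).1
        (Nat.prime_three.dvd_of_dvd_pow h3)
      omega
    · have := aut_prime conj.range (by rw [hMn', h]; norm_num)
      rw [hMn'] at this
      subst h
      exact Good.mono (t := 7 * 6) ⟨by norm_num, fun h => absurd h (by norm_num)⟩
        (Nat.mul_le_mul_left _ this)
    · have := aut_eight conj.range (by rw [hMn', h])
      subst h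
      exact Good.mono (t := 8 * 168) ⟨by norm_num, fun h => absurd h (by norm_num)⟩
        (Nat.mul_le_mul_left _ this)
    · refine prim_good h ?_
      have := aut_pow (by omega) (Nat.log 2 n) conj.range ⊥ (fun φ _ u hu => by
        rw [Subgroup.mem_bot.1 hu, map_one]) (by
        rw [Subgroup.card_bot, one_mul, hMn']
        exact Nat.lt_pow_succ_log_self (by norm_num) n)
      rwa [hMn'] at this
  · -- blocks
    obtain ⟨B, hB, hBt⟩ : ∃ B : Set X, IsBlock T B ∧ ¬ IsTrivialBlock B := by
      by_contra h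
      push Not at h
      exact hpr { isTrivialBlock_of_isBlock := fun {B} hB => h B hB }
    rw [IsTrivialBlock, not_or] at hBt
    obtain ⟨hBsub, hBuniv⟩ := hBt
    have hb2 : 2 ≤ B.ncard := by
      by_contra h
      exact hBsub ((Set.ncard_le_one_iff_subsingleton).1 (by omega))
    have hBne : B.Nonempty := Set.nonempty_of_ncard_ne_zero (by omega)
    have hbn : B.ncard < n := by
      rw [← hX, ← Set.ncard_univ]
      exact Set.ncard_lt_ncard (Set.ssubset_univ_iff.2 hBuniv) (Set.toFinite _)
    have hmul := hB.ncard_block_mul_ncard_orbit_eq hBne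
    rw [hX] at hmul
    set C : Set (Set X) := orbit T B with hCdef
    have hc2 : 2 ≤ C.ncard := by
      by_contra h
      have : C.ncard * B.ncard ≤ 1 * B.ncard := Nat.mul_le_mul_right _ (by omega)
      rw [mul_comm] at hmul
      omega
    have hcn : C.ncard < n := by nlinarith
    have g2 := act C (by simpa [Nat.card_coe_set_eq] using hcn)
      (by rw [Nat.card_coe_set_eq]; omega)
    rw [Nat.card_coe_set_eq] at g2
    let SB : Subgroup T := stabilizer T B
    letI : MulAction SB B :=
      { smul := fun s y => ⟨(s : T) • (y : X), by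
          have h := Set.smul_mem_smul_set (a := (s : T)) y.2
          rwa [show (s : T) • B = B from s.2] at h⟩
        one_smul := fun y => Subtype.ext (one_smul T (y : X))
        mul_smul := fun s t y => Subtype.ext (mul_smul (s : T) (t : T) (y : X)) }
    let π := MulAction.toPermHom SB B
    have g1 : Good B.ncard (Nat.card π.range) := by
      have := ih _ (by rwa [← Nat.card_coe_set_eq] at hbn) B π.range
        (solvable_of_surjective π.rangeRestrict_surjective) rfl
        (by rw [Nat.card_coe_set_eq]; omega)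
      rwa [Nat.card_coe_set_eq] at this
    rw [← hmul]
    refine (g1.wreath hb2 hc2 g2).mono ?_
    set top := MulAction.toPermHom T C with htop
    have hK : Nat.card top.ker ≤ Nat.card π.range ^ C.ncard := by
      rw [← Nat.card_coe_set_eq C, ← Nat.card_fun]
      have hg : ∀ Q : C, ∃ g : T, g • B = Q := fun Q => Q.2
      choose g hg using hg
      have hmem : ∀ (kk : top.ker) (Q : C), (g Q)⁻¹ * (kk : T) * g Q ∈ SB := by
        intro kk Q
        show ((g Q)⁻¹ * (kk : T) * g Q) • B = B
        have h1 : (kk : T) • (Q : Set X) = Q :=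
          congrArg Subtype.val (DFunLike.congr_fun (MonoidHom.mem_ker.1 kk.2) Q)
        rw [mul_smul, mul_smul, hg, h1, ← hg, inv_smul_smul]
      refine Nat.card_le_card_of_injective
        (fun kk Q => π.rangeRestrict ⟨_, hmem kk Q⟩) fun s t hst => ?_
      refine Subtype.ext (eq_of_smul_eq_smul (α := X) fun y => ?_)
      obtain ⟨b, hb⟩ := hBne
      obtain ⟨a, rfl⟩ := exists_smul_eq T b y
      let Q : C := ⟨a • B, mem_orbit B a⟩
      have hy : (g Q)⁻¹ • a • b ∈ B := by
        rw [← Set.mem_smul_set_iff_inv_smul_mem, hg]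
        exact Set.smul_mem_smul_set hb
      have := congrArg (fun φ : π.range => ((φ : Equiv.Perm B) ⟨_, hy⟩ : X)) (congrFun hst Q)
      change ((g Q)⁻¹ * (s : T) * g Q) • (g Q)⁻¹ • a • b =
        ((g Q)⁻¹ * (t : T) * g Q) • (g Q)⁻¹ • a • b at this
      simp only [mul_smul, smul_inv_smul] at this
      exact smul_left_cancel _ this
    calc Nat.card T = Nat.card top.ker * Nat.card top.range := by
          rw [← Subgroup.index_ker, Subgroup.card_mul_index]
      _ ≤ _ := Nat.mul_le_mul_right _ hK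

/-- solvable groups of permutations -/
theorem solvable_perm_bound {T : Type*} [Group T] [Finite T] (hT : Group.IsSolvable T)
    {X : Type u} [Finite X] (f : T →* Equiv.Perm X) (hf : Function.Injective f)
    (hX : 1 ≤ Nat.card X) : Good (Nat.card X) (Nat.card T) := by
  haveI := hT
  rw [Nat.card_congr (MonoidHom.ofInjective hf).toEquiv]
  exact perm_good _ X f.range (solvable_of_surjective f.rangeRestrict_surjective) rfl hX

end Cfsg.Agent.ClassNumber
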