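import Mathlib

/-!
# Automorphisms preserving a nondegenerate alternating pairing on a finite abelian group
-/

set_option autoImplicit false

namespace Cfsg.Agent.ClassNumber

universe u v

/-- a nondegenerate alternating pairing with values in a group `Z` -/
structure Pairing (Q : Type u) (Z : Type v) [CommGroup Q] [CommGroup Z] where
  form : Q →* Q →* Z
  alt : ∀ x, form x x = 1
  nondeg : ∀ x, (∀ y, form x y = 1) → x = 1

variable {Q : Type u} {Z : Type v} [CommGroup Q] [CommGroup Z]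

/-- the automorphisms preserving the pairing -/
def Pairing.Preserves (β : Pairing Q Z) (Y : Subgroup (MulAut Q)) : Prop :=
  ∀ φ ∈ Y, ∀ x y, β.form (φ x) (φ y) = β.form x y

theorem Pairing.skew (β : Pairing Q Z) (x y : Q) : β.form y x = (β.form x y)⁻¹ := by
  have h := β.alt (x * y)
  simp only [map_mul, MonoidHom.mul_apply, β.alt, one_mul, mul_one] at h
  exact eq_inv_of_mul_eq_one_left h

/-- the exponent is square free -/
def SqFreeExp (Q : Type u) [CommGroup Q] : Prop :=
  ∀ r : ℕ, r.Prime → ∀ x : Q, x ^ (r * r) = 1 → x ^ r = 1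

theorem SqFreeExp.pow_prime (h : SqFreeExp Q) {r : ℕ} (hr : r.Prime) :
    ∀ (j : ℕ) (x : Q), x ^ r ^ j = 1 → x ^ r = 1 := by
  intro j
  induction j with
  | zero => intro x hx; rw [pow_zero, pow_one] at hx; rw [hx, one_pow]
  | succ j ih =>
    intro x hx
    rw [pow_succ', pow_mul] at hx
    exact h r hr x (by rw [pow_mul]; exact ih _ hx)

theorem SqFreeExp.subgroup (h : SqFreeExp Q) (Q' : Subgroup Q) : SqFreeExp Q' :=
  fun r hr x hx => Subtype.ext (h r hr x (congrArg Subtype.val hx))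

/-- the elements of exponent `r` -/
def torsion (Q : Type u) [CommGroup Q] (r : ℕ) : Subgroup Q := (powMonoidHom r : Q →* Q).ker

theorem mem_torsion {r : ℕ} {x : Q} : x ∈ torsion Q r ↔ x ^ r = 1 := MonoidHom.mem_ker

theorem card_torsion_le [Finite Q] {r : ℕ} (hr : r.Prime) :
    Nat.card (torsion Q r) ≤ r ^ (Nat.card Q).factorization r := by
  haveI := Fact.mk hr
  have hp : IsPGroup r (torsion Q r) :=
    fun x => ⟨1, by rw [pow_one]; exact Subtype.ext (mem_torsion.1 x.2)⟩
  obtain ⟨j, hj⟩ := IsPGroup.iff_card.1 hp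
  rw [hj]
  refine Nat.pow_le_pow_right hr.pos ?_
  rw [← hr.pow_dvd_iff_le_factorization Nat.card_pos.ne', ← hj]
  exact Subgroup.card_subgroup_dvd_card _

theorem mem_zpowers_of_prime [IsCyclic Z] [Finite Z] {r : ℕ} (hr : r.Prime) {c z : Z}
    (hc : c ^ r = 1) (hc1 : c ≠ 1) (hz : z ^ r = 1) : z ∈ Subgroup.zpowers c := by
  classical
  haveI := Fact.mk hr
  have := Fintype.ofFinite Z
  have hsub : (Subgroup.zpowers c : Set Z).toFinset ⊆ ({a : Z | a ^ r = 1} : Finset Z) := by
    intro a ha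
    rw [Set.mem_toFinset, SetLike.mem_coe] at ha
    obtain ⟨i, rfl⟩ := Subgroup.mem_zpowers_iff.1 ha
    simp only [Finset.mem_filter, Finset.mem_univ, true_and]
    rw [← zpow_natCast, ← zpow_mul, mul_comm, zpow_mul, zpow_natCast, hc, one_zpow]
  have hcard : ({a : Z | a ^ r = 1} : Finset Z).card ≤
      (Subgroup.zpowers c : Set Z).toFinset.card := by
    rw [Set.toFinset_card]
    simp only [SetLike.coe_sort_coe]
    rw [← Nat.card_eq_fintype_card, Nat.card_zpowers, orderOf_eq_prime hc hc1]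
    exact IsCyclic.card_pow_eq_one_le hr.pos
  have : z ∈ (Subgroup.zpowers c : Set Z).toFinset := by
    rw [Finset.eq_of_subset_of_card_le hsub hcard]
    simp [hz]
  simpa using this

/-- splitting off a hyperbolic pair -/
theorem step [Finite Q] [IsCyclic Z] [Finite Z] (β : Pairing Q Z) (hsf : SqFreeExp Q)
    (Y : Subgroup (MulAut Q)) (hY : β.Preserves Y) {r : ℕ} (hr : r.Prime)
    (hrQ : r ∣ Nat.card Q) :
    ∃ (u v : Q) (Q' : Subgroup Q) (β' : Pairing Q' Z) (Y' : Subgroup (MulAut Q')),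
      u ^ r = 1 ∧ v ^ r = 1 ∧ β.form u v ≠ 1 ∧ Nat.card Q = r ^ 2 * Nat.card Q' ∧
      (∀ x y : Q', β'.form x y = β.form x y) ∧
      (∀ x ∈ Q', β.form u x = 1 ∧ β.form v x = 1) ∧
      (∀ x : Q, ∃ i j : ℤ, (v ^ i * u ^ j)⁻¹ * x ∈ Q') ∧
      β'.Preserves Y' ∧ (Group.IsSolvable Y → Group.IsSolvable Y') ∧
      Nat.card Y ≤ (r ^ (Nat.card Q).factorization r - 1) *
        (r ^ (Nat.card Q).factorization r / r) * Nat.card Y' := by
  classical
  haveI := Fact.mk hr
  set R := r ^ (Nat.card Q).factorization r with hR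
  obtain ⟨u, hu⟩ := exists_prime_orderOf_dvd_card' r hrQ
  have hu1 : u ≠ 1 := fun h => hr.ne_one (by rw [← hu, h, orderOf_one])
  have hur : u ^ r = 1 := by rw [← hu]; exact pow_orderOf_eq_one u
  obtain ⟨w, hw⟩ : ∃ w, β.form u w ≠ 1 := by
    by_contra h
    push Not at h
    exact hu1 (β.nondeg u h)
  have hval : ∀ y, β.form u y ^ r = 1 := fun y => by
    rw [← MonoidHom.pow_apply, ← map_pow, hur, map_one, MonoidHom.one_apply]
  obtain ⟨m, hm⟩ : R ∣ Nat.card Q := Nat.ordProj_dvd _ r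
  have hmr : ¬ r ∣ m := by
    have := Nat.not_dvd_ordCompl hr (Nat.card_pos (α := Q)).ne'
    rwa [← hR, hm, Nat.mul_div_cancel_left _ (pow_pos hr.pos _)] at this
  obtain ⟨v, hvr, hv⟩ : ∃ v, v ^ r = 1 ∧ β.form u v ≠ 1 := by
    refine ⟨w ^ m, hsf.pow_prime hr _ _ (show (w ^ m) ^ R = 1 by
      rw [← pow_mul, mul_comm, ← hm]; exact pow_card_eq_one'), ?_⟩
    rw [map_pow]
    intro h
    refine hmr ?_
    rw [← orderOf_eq_prime (hval w) hw]
    exact orderOf_dvd_of_pow_eq_one h
  set c := β.form u v with hc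
  have hcr : c ^ r = 1 := hval v
  have hvval : ∀ y, β.form v y ^ r = 1 := fun y => by
    rw [← MonoidHom.pow_apply, ← map_pow, hvr, map_one, MonoidHom.one_apply]
  let θ : Q →* Z × Z := (β.form u).prod (β.form v)
  have hθv : θ v = (c, 1) := Prod.ext rfl (β.alt v)
  have hθu : θ u = (1, c⁻¹) := Prod.ext (β.alt u) (β.skew u v)
  have hrange : θ.range = (Subgroup.zpowers c).prod (Subgroup.zpowers c) := by
    refine le_antisymm ?_ ?_
    · rintro _ ⟨y, rfl⟩
      exact ⟨mem_zpowers_of_prime hr hcr hv (hval y), mem_zpowers_of_prime hr hcr hv (hvval y)⟩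
    · rintro ⟨a, b⟩ ⟨ha, hb⟩
      obtain ⟨i, rfl⟩ := Subgroup.mem_zpowers_iff.1 ha
      obtain ⟨j, rfl⟩ := Subgroup.mem_zpowers_iff.1 hb
      refine ⟨v ^ i * u ^ (-j), ?_⟩
      rw [map_mul, map_zpow, map_zpow, hθu, hθv]
      simp
  have hsplit : ∀ x : Q, ∃ i j : ℤ, (v ^ i * u ^ j)⁻¹ * x ∈ θ.ker := by
    intro x
    have hx : θ x ∈ θ.range := ⟨x, rfl⟩
    rw [hrange] at hx
    obtain ⟨i, hi⟩ := Subgroup.mem_zpowers_iff.1 hx.1
    obtain ⟨j, hj⟩ := Subgroup.mem_zpowers_iff.1 hx.2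
    refine ⟨i, -j, ?_⟩
    have e : θ (v ^ i * u ^ (-j)) = θ x := by
      rw [map_mul, map_zpow, map_zpow, hθu, hθv]
      refine Prod.ext ?_ ?_
      · rw [← hi]; simp
      · rw [← hj]; simp
    rw [MonoidHom.mem_ker, map_mul, map_inv, e, inv_mul_cancel]
  have hperp : ∀ x ∈ θ.ker, β.form u x = 1 ∧ β.form v x = 1 := fun x hx =>
    ⟨congrArg Prod.fst hx, congrArg Prod.snd hx⟩
  let β' : Pairing θ.ker Z :=
    { form := (MonoidHom.compHom' θ.ker.subtype).comp (β.form.comp θ.ker.subtype)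
      alt := fun x => β.alt x
      nondeg := fun x hx => Subtype.ext (β.nondeg x fun y => by
        obtain ⟨i, j, hy⟩ := hsplit y
        have h1 : β.form x ((v ^ i * u ^ j)⁻¹ * y) = 1 := hx ⟨_, hy⟩
        have hxv : β.form x v = 1 := by
          rw [β.skew v x, (hperp x x.2).2, inv_one]
        have hxu : β.form x u = 1 := by
          rw [β.skew u x, (hperp x x.2).1, inv_one]
        rw [map_mul, map_inv, map_mul, map_zpow, map_zpow, hxu, hxv] at h1
        simpa using h1) }
  -- the stabilizer of the pair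
  let S : Subgroup (MulAut Q) :=
    { carrier := {φ | φ ∈ Y ∧ φ u = u ∧ φ v = v}
      one_mem' := ⟨Y.one_mem, rfl, rfl⟩
      mul_mem' := fun {a b} ha hb => ⟨Y.mul_mem ha.1 hb.1,
        by show a (b u) = u; rw [hb.2.1, ha.2.1],
        by show a (b v) = v; rw [hb.2.2, ha.2.2]⟩
      inv_mem' := fun {a} ha => ⟨Y.inv_mem ha.1,
        by show a.symm u = u; rw [MulEquiv.symm_apply_eq, ha.2.1],
        by show a.symm v = v; rw [MulEquiv.symm_apply_eq, ha.2.2]⟩ }
  have hSmem : ∀ φ : S, ∀ x ∈ θ.ker, (φ : MulAut Q) x ∈ θ.ker := by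
    intro φ x hx
    rw [MonoidHom.mem_ker]
    refine Prod.ext ?_ ?_
    · show β.form u _ = 1
      rw [← φ.2.2.1, hY _ φ.2.1]
      exact (hperp x hx).1
    · show β.form v _ = 1
      rw [← φ.2.2.2, hY _ φ.2.1]
      exact (hperp x hx).2
  let ρ : S →* MulAut θ.ker :=
    { toFun := fun φ =>
        { toFun := fun x => ⟨(φ : MulAut Q) x, hSmem φ x x.2⟩
          invFun := fun x => ⟨(φ : MulAut Q).symm x, hSmem φ⁻¹ x x.2⟩
          left_inv := fun x => Subtype.ext ((φ : MulAut Q).symm_apply_apply x)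
          right_inv := fun x => Subtype.ext ((φ : MulAut Q).apply_symm_apply x)
          map_mul' := fun x y => Subtype.ext (map_mul (φ : MulAut Q) (x : Q) (y : Q)) }
      map_one' := rfl
      map_mul' := fun _ _ => rfl }
  have hρ : Function.Injective ρ := by
    intro φ ψ h
    refine Subtype.ext (MulEquiv.ext fun x => ?_)
    obtain ⟨i, j, hx⟩ := hsplit x
    have e := congrArg (fun f : MulAut θ.ker => (f ⟨_, hx⟩ : Q)) h
    change (φ : MulAut Q) _ = (ψ : MulAut Q) _ at e
    simp only [map_mul, map_inv, map_zpow, φ.2.2.1, φ.2.2.2, ψ.2.2.1, ψ.2.2.2] at e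
    exact mul_left_cancel e
  refine ⟨u, v, θ.ker, β', ρ.range, hur, hvr, hv, ?_, fun _ _ => rfl, hperp, hsplit, ?_, ?_, ?_⟩
  · rw [← θ.ker.card_mul_index, Subgroup.index_ker, hrange,
      Nat.card_congr (Subgroup.prodEquiv _ _).toEquiv, Nat.card_prod, Nat.card_zpowers,
      orderOf_eq_prime hcr hv]
    ring
  · rintro _ ⟨φ, rfl⟩ x y
    exact hY _ φ.2.1 _ _
  · intro hs
    haveI := hs
    haveI : Group.IsSolvable S :=
      solvable_of_solvable_injective (f := Subgroup.inclusion (fun φ (hφ : φ ∈ S) => hφ.1))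
        (Subgroup.inclusion_injective _)
    exact solvable_of_surjective ρ.rangeRestrict_surjective
  · rw [← Nat.card_congr (MonoidHom.ofInjective hρ).toEquiv]
    let P := torsion Q r
    have hP : Nat.card P ≤ R := card_torsion_le hr
    let T : Finset (Q × Q) := ((Set.toFinite {z : Q × Q | z.1 ∈ P ∧ z.1 ≠ 1 ∧ z.2 ∈ P ∧
      β.form z.1 z.2 = c}).toFinset)
    have hT : T.card ≤ (R - 1) * (R / r) := by
      have hsub : T.image Prod.fst ⊆ (Set.toFinite ((P : Set Q) \ {1})).toFinset := by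
        intro a ha
        obtain ⟨z, hz, rfl⟩ := Finset.mem_image.1 ha
        simp only [T, Set.Finite.mem_toFinset, Set.mem_ofPred_eq] at hz
        simp only [Set.Finite.mem_toFinset, Set.mem_diff, SetLike.mem_coe, Set.mem_singleton_iff]
        exact ⟨hz.1, hz.2.1⟩
      have h1 : (T.image Prod.fst).card ≤ R - 1 := by
        refine (Finset.card_le_card hsub).trans ?_
        rw [← Set.ncard_eq_toFinset_card, Set.ncard_diff_singleton_of_mem P.one_mem]
        exact Nat.sub_le_sub_right hP 1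
      refine le_trans (Finset.card_le_mul_card_image T (R / r) fun a ha => ?_)
        (by rw [mul_comm]; exact Nat.mul_le_mul_right _ h1)
      obtain ⟨z, hz, rfl⟩ := Finset.mem_image.1 ha
      simp only [T, Set.Finite.mem_toFinset, Set.mem_ofPred_eq] at hz
      obtain ⟨ha1, -, hb, hab⟩ := hz
      let f : P →* Z := (β.form z.1).comp P.subtype
      have hk : Nat.card f.ker ≤ R / r := by
        rw [Nat.le_div_iff_mul_le hr.pos]
        refine le_trans ?_ hP
        rw [← f.ker.card_mul_index, Subgroup.index_ker]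
        refine Nat.mul_le_mul_left _ ?_
        rw [← orderOf_eq_prime hcr hv, ← Nat.card_zpowers]
        refine Subgroup.card_le_of_le (Subgroup.zpowers_le.2 ⟨⟨z.2, hb⟩, hab⟩)
      refine le_trans ?_ hk
      rw [← Nat.card_eq_finsetCard]
      have hmem : ∀ y : {y // y ∈ {y ∈ T | y.1 = z.1}}, y.1.2 ∈ P ∧ β.form z.1 y.1.2 = c := by
        intro y
        obtain ⟨hy, he⟩ := Finset.mem_filter.1 y.2
        simp only [T, Set.Finite.mem_toFinset, Set.mem_ofPred_eq] at hy
        exact ⟨hy.2.2.1, (congrArg (fun a => β.form a y.1.2) he.symm).trans hy.2.2.2⟩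
      refine Nat.card_le_card_of_injective (fun y => (⟨⟨z.2⁻¹ * y.1.2,
        P.mul_mem (P.inv_mem hb) (hmem y).1⟩, ?_⟩ : f.ker)) fun a b h => ?_
      · show β.form z.1 (z.2⁻¹ * y.1.2) = 1
        rw [map_mul, map_inv, hab, (hmem y).2, inv_mul_cancel]
      · have h2 : a.1.2 = b.1.2 :=
          mul_left_cancel (congrArg (fun t : f.ker => ((t : P) : Q)) h)
        exact Subtype.ext (Prod.ext ((Finset.mem_filter.1 a.2).2.trans
          (Finset.mem_filter.1 b.2).2.symm) h2)
    refine le_trans ?_ (Nat.mul_le_mul_right _ hT)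
    rw [← Nat.card_eq_finsetCard, ← Nat.card_prod]
    have hmem : ∀ φ : Y, ((φ : MulAut Q) u, (φ : MulAut Q) v) ∈ T := by
      intro φ
      simp only [T, Set.Finite.mem_toFinset, Set.mem_ofPred_eq, P, mem_torsion]
      refine ⟨by rw [← map_pow, hur, map_one], fun h => hu1 ?_, by rw [← map_pow, hvr, map_one],
        hY _ φ.2 _ _⟩
      exact (map_eq_one_iff _ (φ : MulAut Q).injective).1 h
    let g : Y → T := fun φ => ⟨_, hmem φ⟩
    let pre : T → Y := Function.invFun g
    refine Nat.card_le_card_of_injective (fun φ => (g φ,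
      (⟨((pre (g φ) : Y) : MulAut Q)⁻¹ * φ, ?_⟩ : S))) fun a b h => ?_
    · have e : g (pre (g φ)) = g φ := Function.invFun_eq ⟨φ, rfl⟩
      have e1 : ((pre (g φ) : Y) : MulAut Q) u = (φ : MulAut Q) u :=
        congrArg (fun t : T => t.1.1) e
      have e2 : ((pre (g φ) : Y) : MulAut Q) v = (φ : MulAut Q) v :=
        congrArg (fun t : T => t.1.2) e
      exact ⟨Y.mul_mem (Y.inv_mem (pre (g φ)).2) φ.2,
        by rw [MulAut.mul_apply, ← e1, MulAut.inv_apply_self],
        by rw [MulAut.mul_apply, ← e2, MulAut.inv_apply_self]⟩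
    · obtain ⟨h1, h2⟩ := Prod.mk.injEq .. ▸ h
      have h3 := congrArg Subtype.val h2
      simp only [h1] at h3
      exact Subtype.ext (mul_left_cancel h3)

/-- the product of the orders bounds of the symplectic groups -/
def spB (e : ℕ) : ℕ := e.factorization.prod fun r k => r ^ (k * (2 * k + 1))

theorem spB_mul {r e : ℕ} (hr : r.Prime) (he : e ≠ 0) :
    spB (r * e) = r ^ (4 * e.factorization r + 3) * spB e := by
  set k := e.factorization r with hk
  have hre : r * e ≠ 0 := Nat.mul_ne_zero hr.ne_zero he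
  have hfac : ∀ q, (r * e).factorization q = (if q = r then 1 else 0) + e.factorization q := by
    intro q
    rw [Nat.factorization_mul hr.ne_zero he, hr.factorization, Finsupp.add_apply,
      Finsupp.single_apply]
    by_cases h : q = r
    · subst h; simp
    · rw [if_neg h, if_neg (Ne.symm h)]
  have herase : (r * e).factorization.erase r = e.factorization.erase r := by
    ext q
    by_cases hq : q = r
    · simp [hq]
    · rw [Finsupp.erase_ne hq, Finsupp.erase_ne hq, hfac, if_neg hq, zero_add]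
  have key : ∀ n : ℕ, spB n = r ^ (n.factorization r * (2 * n.factorization r + 1)) *
      (n.factorization.erase r).prod fun r k => r ^ (k * (2 * k + 1)) := fun n =>
    (Finsupp.mul_prod_erase' n.factorization r (fun r k => r ^ (k * (2 * k + 1)))
      (fun _ => by simp)).symm
  rw [key, key e, herase, hfac, if_pos rfl, ← hk, ← mul_assoc, ← pow_add]
  congr 2
  ring

theorem spB_le {e n : ℕ} (he : e ≠ 0) (hn : ∀ r, e.factorization r ≤ n) :
    spB e ≤ e ^ (2 * n + 1) := by
  nth_rw 2 [← Nat.prod_factorization_pow_eq_self he]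
  rw [spB, Finsupp.prod, Finsupp.prod, ← Finset.prod_pow]
  refine Finset.prod_le_prod' fun r hr => ?_
  rw [← pow_mul]
  exact Nat.pow_le_pow_right (Nat.prime_of_mem_primeFactors
    (by simpa using hr)).pos (Nat.mul_le_mul_left _ (by have := hn r; omega))

/-- the general bound -/
theorem sq_bound : ∀ (N : ℕ) (Q : Type u) (Z : Type v) [CommGroup Q] [CommGroup Z] [Finite Q]
    [Finite Z] [IsCyclic Z] (β : Pairing Q Z) (Y : Subgroup (MulAut Q)),
    Nat.card Q = N → SqFreeExp Q → β.Preserves Y →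
      ∃ e, N = e ^ 2 ∧ Nat.card Y ≤ spB e := by
  intro N
  induction N using Nat.strong_induction_on with
  | h N ih => ?_
  intro Q Z _ _ _ _ _ β Y hQ hsf hY
  by_cases h1 : N = 1
  · refine ⟨1, h1, ?_⟩
    haveI := (Nat.card_eq_one_iff_unique.1 (hQ.trans h1)).1
    have : Subsingleton (MulAut Q) := ⟨fun a b => MulEquiv.ext fun x => Subsingleton.elim _ _⟩
    rw [spB, Nat.factorization_one, Finsupp.prod_zero_index]
    exact le_of_eq (Nat.card_eq_one_iff_unique.2 ⟨inferInstance, ⟨1⟩⟩)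
  obtain ⟨r, hr, hrN⟩ := Nat.exists_prime_and_dvd h1
  obtain ⟨u, v, Q', β', Y', -, -, -, hcard, -, -, -, hY', -, hle⟩ :=
    step β hsf Y hY hr (hQ ▸ hrN)
  have hlt : Nat.card Q' < N := by
    rw [← hQ, hcard]
    exact lt_mul_left Nat.card_pos (Nat.one_lt_pow two_ne_zero hr.one_lt)
  obtain ⟨e, he, hbound⟩ := ih _ hlt Q' Z β' Y' rfl (hsf.subgroup Q') hY'
  have he0 : e ≠ 0 := by
    rintro rfl
    exact Nat.card_pos.ne' he
  refine ⟨r * e, by rw [← hQ, hcard, he]; ring, hle.trans ?_⟩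
  have hv : (Nat.card Q).factorization r = 2 * (e.factorization r + 1) := by
    rw [hcard, he, ← mul_pow, Nat.factorization_pow, Finsupp.smul_apply,
      Nat.factorization_mul hr.ne_zero he0, hr.factorization, Finsupp.add_apply,
      Finsupp.single_eq_same, smul_eq_mul, add_comm]
  rw [hv, spB_mul hr he0]
  refine Nat.mul_le_mul ?_ hbound
  have h2 : r ^ (2 * (e.factorization r + 1)) / r = r ^ (2 * e.factorization r + 1) := by
    rw [show 2 * (e.factorization r + 1) = (2 * e.factorization r + 1) + 1 by ring, pow_succ,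
      Nat.mul_div_cancel _ hr.pos]
  rw [h2]
  calc (r ^ (2 * (e.factorization r + 1)) - 1) * r ^ (2 * e.factorization r + 1)
      ≤ r ^ (2 * (e.factorization r + 1)) * r ^ (2 * e.factorization r + 1) :=
        Nat.mul_le_mul_right _ (Nat.sub_le _ _)
    _ = _ := by rw [← pow_add]; ring_nf

/-- the small cases -/
theorem small_bound {Q : Type u} {Z : Type v} [CommGroup Q] [CommGroup Z] [Finite Q] [Finite Z]
    [IsCyclic Z] (β : Pairing Q Z) (Y : Subgroup (MulAut Q)) (hsf : SqFreeExp Q)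
    (hY : β.Preserves Y) :
    (Nat.card Q = 4 → Nat.card Y ≤ 6) ∧ (Nat.card Q = 9 → Nat.card Y ≤ 24) ∧
      (Nat.card Q = 16 → Nat.card Y ≤ 720) := by
  have one : ∀ (Q : Type u) [CommGroup Q] [Finite Q] (Y : Subgroup (MulAut Q)),
      Nat.card Q = 1 → Nat.card Y = 1 := fun Q _ _ Y h => by
    haveI := (Nat.card_eq_one_iff_unique.1 h).1
    have : Subsingleton (MulAut Q) := ⟨fun a b => MulEquiv.ext fun x => Subsingleton.elim _ _⟩
    exact Nat.card_eq_one_iff_unique.2 ⟨inferInstance, ⟨1⟩⟩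
  have base : ∀ (Q : Type u) [CommGroup Q] [Finite Q] (β : Pairing Q Z) (Y : Subgroup (MulAut Q))
      (r : ℕ), r.Prime → SqFreeExp Q → β.Preserves Y → Nat.card Q = r ^ 2 →
      Nat.card Y ≤ (r ^ 2 - 1) * r := by
    intro Q _ _ β Y r hr hsf hY hQ
    obtain ⟨u, v, Q', β', Y', -, -, -, hcard, -, -, -, -, -, hle⟩ :=
      step β hsf Y hY hr (hQ ▸ dvd_pow_self r two_ne_zero)
    have h1 : Nat.card Q' = 1 := by
      refine Nat.eq_of_mul_eq_mul_left (pow_pos hr.pos 2) ?_
      rw [← hcard, hQ, mul_one]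
    rw [one Q' Y' h1, mul_one, hQ, Nat.Prime.factorization_pow hr, Finsupp.single_eq_same] at hle
    calc Nat.card Y ≤ _ := hle
      _ = _ := by rw [sq, Nat.mul_div_cancel _ hr.pos]
  refine ⟨fun h => le_of_le_of_eq (base Q β Y 2 Nat.prime_two hsf hY h) rfl,
    fun h => le_of_le_of_eq (base Q β Y 3 Nat.prime_three hsf hY h) rfl, fun h => ?_⟩
  obtain ⟨u, v, Q', β', Y', -, -, -, hcard, -, -, -, hY', -, hle⟩ :=
    step β hsf Y hY Nat.prime_two (h ▸ by norm_num)
  have h1 := base Q' β' Y' 2 Nat.prime_two (hsf.subgroup Q') hY' (by omega)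
  rw [h, show (16 : ℕ) = 2 ^ 4 from rfl, Nat.Prime.factorization_pow Nat.prime_two,
    Finsupp.single_eq_same] at hle
  norm_num at hle h1
  omega

end Cfsg.Agent.ClassNumber
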