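import Mathlib
import Cfsg.Agent.Lib.ClassNumber.SympBound
import Cfsg.Agent.Lib.ClassNumber.PermBound

/-!
# The numerical inequalities
-/

set_option autoImplicit false

namespace Cfsg.Agent.ClassNumber

theorem reduce {p N X Y : ℕ} (hp : 11 ≤ p) (hN : 2 ≤ N)
    (h : 240100 * X ≤ 1425600 * 11 ^ (N - 2) * Y) :
    2401 * p ^ 2 * X ≤ 14400 * (p ^ N - 1) * Y := by
  have h1 : 1425600 * 11 ^ (N - 2) * Y ≤ 1425600 * p ^ (N - 2) * Y :=
    Nat.mul_le_mul_right _ (Nat.mul_le_mul_left _ (Nat.pow_le_pow_left hp _))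
  have h2 : p ^ N = p ^ (N - 2) * p ^ 2 := by rw [← pow_add, Nat.sub_add_cancel hN]
  have h121 : 121 ≤ p ^ N := by
    rw [h2]
    exact le_trans (Nat.pow_le_pow_left hp 2) (Nat.le_mul_of_pos_left _ (pow_pos (by omega) _))
  obtain ⟨P, hP⟩ := Nat.exists_eq_add_of_le (show 1 ≤ p ^ N by omega)
  rw [hP, Nat.add_sub_cancel_left]
  have h3 : 99 * p ^ N ≤ 100 * P := by omega
  refine Nat.le_of_mul_le_mul_left ?_ (show 0 < 100 by norm_num)
  calc 100 * (2401 * p ^ 2 * X) = (240100 * X) * p ^ 2 := by ring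
    _ ≤ 1425600 * p ^ (N - 2) * Y * p ^ 2 := Nat.mul_le_mul_right _ (h.trans h1)
    _ = 14400 * (99 * p ^ N) * Y := by rw [h2]; ring
    _ ≤ 14400 * (100 * P) * Y := by gcongr
    _ = _ := by ring

theorem sq_le_eleven : ∀ a, 2 ≤ a → 30 * a ^ 2 ≤ 11 ^ (2 * (a - 1)) := by
  intro a ha
  induction a, ha using Nat.le_induction with
  | base => norm_num
  | succ a ha ih =>
    rw [show 2 * (a + 1 - 1) = 2 * (a - 1) + 2 by omega, pow_add]
    nlinarith

theorem sq_le_eleven' : ∀ a, 2 ≤ a → 240100 * a ^ 2 ≤ 1425600 * 11 ^ (a - 2) := by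
  intro a ha
  induction a, ha using Nat.le_induction with
  | base => norm_num
  | succ a ha ih =>
    rw [show a + 1 - 2 = (a - 2) + 1 by omega, pow_succ]
    calc 240100 * (a + 1) ^ 2 ≤ 240100 * (11 * a ^ 2) := Nat.mul_le_mul_left _ (by nlinarith)
      _ = 11 * (240100 * a ^ 2) := by ring
      _ ≤ 11 * (1425600 * 11 ^ (a - 2)) := Nat.mul_le_mul_left _ ih
      _ = _ := by ring

theorem exp_le : ∀ L, 5 ≤ L → (L + 1) * (2 * L + 3) + 8 ≤ 3 * 2 ^ L := by
  intro L hL
  induction L, hL using Nat.le_induction with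
  | base => norm_num
  | succ L hL ih => rw [pow_succ 2]; nlinarith

theorem factorization_lt {e n : ℕ} (he : e ≠ 0) (h : e < 2 ^ (n + 1)) (r : ℕ) :
    e.factorization r ≤ n := by
  by_cases hr : r.Prime
  · by_contra hc
    push Not at hc
    have h1 : r ^ e.factorization r ≤ e := Nat.le_of_dvd (Nat.pos_of_ne_zero he) (Nat.ordProj_dvd e r)
    have h2 : 2 ^ (n + 1) ≤ r ^ e.factorization r :=
      le_trans (Nat.pow_le_pow_left hr.two_le _) (Nat.pow_le_pow_right hr.pos hc)
    omega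
  · rw [Nat.factorization_eq_zero_of_not_prime e hr]; exact Nat.zero_le _

/-- the general layers -/
theorem layer_large {e y : ℕ} (h5 : 5 ≤ e) (h8 : e ≠ 8) (hy : y ≤ spB e) :
    240100 * (e ^ 2 * y) ≤ 1425600 * 11 ^ (e - 2) := by
  have he : e ≠ 0 := by omega
  have key : ∀ n, (∀ r, e.factorization r ≤ n) → e ^ 2 * y ≤ e ^ (2 * n + 3) := fun n hn =>
    calc e ^ 2 * y ≤ e ^ 2 * e ^ (2 * n + 1) := Nat.mul_le_mul_left _ (hy.trans (spB_le he hn))
      _ = _ := by rw [← pow_add]; ring_nf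
  by_cases h7 : e < 8
  · refine le_trans (Nat.mul_le_mul_left _ (key 1 fun r => ?_)) ?_
    · by_cases hr : r.Prime
      · by_contra hc
        push Not at hc
        have h1 : r ^ 2 ∣ e := (pow_dvd_pow r hc).trans (Nat.ordProj_dvd e r)
        have h2 : r ^ 2 ≤ e := Nat.le_of_dvd (by omega) h1
        have h3 : r = 2 := by nlinarith [hr.two_le]
        subst h3
        omega
      · rw [Nat.factorization_eq_zero_of_not_prime e hr]; exact Nat.zero_le _
    · interval_cases e <;> norm_num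
  by_cases h16 : e < 16
  · refine le_trans (Nat.mul_le_mul_left _ (key 2 fun r => ?_)) ?_
    · by_cases hr : r.Prime
      · by_contra hc
        push Not at hc
        have h1 : r ^ 3 ∣ e := (pow_dvd_pow r hc).trans (Nat.ordProj_dvd e r)
        have h2 : r ^ 3 ≤ e := Nat.le_of_dvd (by omega) h1
        have h3 : r < 3 := by
          by_contra h
          have : 3 ^ 3 ≤ r ^ 3 := Nat.pow_le_pow_left (by omega) 3
          omega
        have h4 : r = 2 := by have := hr.two_le; omega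
        subst h4
        omega
      · rw [Nat.factorization_eq_zero_of_not_prime e hr]; exact Nat.zero_le _
    · interval_cases e <;> norm_num
  by_cases h32 : e < 32
  · refine le_trans (Nat.mul_le_mul_left _ (key 4 (factorization_lt he (by omega)))) ?_
    interval_cases e <;> norm_num
  · have hlo : 2 ^ Nat.log 2 e ≤ e := Nat.pow_log_le_self 2 he
    have hhi : e < 2 ^ (Nat.log 2 e + 1) := Nat.lt_pow_succ_log_self (by norm_num) e
    have hL : 5 ≤ Nat.log 2 e := Nat.le_log_of_pow_le (by norm_num) (by omega)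
    have hk := key (Nat.log 2 e) (factorization_lt he hhi)
    have hb := exp_le _ hL
    generalize Nat.log 2 e = L at hlo hhi hL hk hb
    calc 240100 * (e ^ 2 * y) ≤ 240100 * (2 ^ (L + 1)) ^ (2 * L + 3) :=
          Nat.mul_le_mul_left _ (hk.trans (Nat.pow_le_pow_left hhi.le _))
      _ ≤ 1425600 * 2 ^ ((L + 1) * (2 * L + 3)) := by
          rw [← pow_mul]; exact Nat.mul_le_mul_right _ (by norm_num)
      _ ≤ 1425600 * 2 ^ (3 * (e - 2)) := by
          exact Nat.mul_le_mul_left _ (Nat.pow_le_pow_right (by norm_num) (by omega))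
      _ ≤ _ := by
          rw [pow_mul]
          exact Nat.mul_le_mul_left _ (Nat.pow_le_pow_left (by norm_num) _)

/-- the primitive case away from two exceptions -/
theorem prim_arith {p a D e y kb : ℕ} (hp : 11 ≤ p) (hpr : p.Prime) (ha : 1 ≤ a) (hD : 1 ≤ D)
    (had : 2 ≤ a * D) (he : 1 ≤ e) (heD : e ≤ D) (hy : y ≤ spB e)
    (h2 : e = 2 → y ∣ 6) (h3 : e = 3 → y ≤ 24 ∧ 3 ∣ p ^ a - 1) (h4 : e = 4 → y ≤ 72)
    (h8 : e = 8 → y ≤ 145152)
    (hk1 : 1 ≤ kb) (hk3 : 2 < e ^ 2 * y → 3 ≤ kb) (hk4 : 6 < e ^ 2 * y → 4 ≤ kb)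
    (hk5 : 42 < e ^ 2 * y → 5 ≤ kb) :
    2401 * p ^ 2 * (a ^ 2 * D * (e ^ 2 * y)) ≤ 14400 * (p ^ (a * D) - 1) * (D + kb - 1) ∨
      (a = 1 ∧ D = 2 ∧ e = 2 ∧ y = 6) ∨ (a = 1 ∧ D = 3 ∧ e = 3 ∧ p = 13 ∧ 42 < e ^ 2 * y) := by
  set ct := e ^ 2 * y with hct
  -- the plain condition
  have plain : 240100 * (a ^ 2 * ct) ≤ 1425600 * 11 ^ (a * D - 2) →
      2401 * p ^ 2 * (a ^ 2 * D * ct) ≤ 14400 * (p ^ (a * D) - 1) * (D + kb - 1) := by
    intro h
    refine reduce hp had ?_
    calc 240100 * (a ^ 2 * D * ct) = 240100 * (a ^ 2 * ct) * D := by ring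
      _ ≤ 1425600 * 11 ^ (a * D - 2) * D := Nat.mul_le_mul_right _ h
      _ ≤ _ := Nat.mul_le_mul_left _ (by omega)
  have hspB1 : spB 1 = 1 := by simp [spB]
  by_cases hD1 : D = 1
  · subst hD1
    obtain rfl : e = 1 := by omega
    left
    refine plain ?_
    rw [hspB1] at hy
    have : ct ≤ 1 := by simp [hct]; omega
    calc 240100 * (a ^ 2 * ct) ≤ 240100 * (a ^ 2 * 1) := by gcongr
      _ ≤ _ := by rw [mul_one, mul_one]; exact sq_le_eleven' a (by omega)
  -- reduce to `a = 1`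
  have plain1 : 240100 * ct ≤ 1425600 * 11 ^ (D - 2) * (if a = 1 then 1 else 30) →
      2401 * p ^ 2 * (a ^ 2 * D * ct) ≤ 14400 * (p ^ (a * D) - 1) * (D + kb - 1) := by
    intro h
    refine plain ?_
    split_ifs at h with ha1
    · subst ha1; simpa using h
    · have h30 : 30 * a ^ 2 ≤ 11 ^ ((a - 1) * D) :=
        le_trans (sq_le_eleven a (by omega)) (Nat.pow_le_pow_right (by norm_num)
          (by rw [mul_comm 2]; exact Nat.mul_le_mul_left _ (by omega)))
      have hexp : a * D - 2 = (D - 2) + (a - 1) * D := by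
        obtain ⟨b, rfl⟩ := Nat.exists_eq_add_of_le ha
        rw [Nat.add_sub_cancel_left, add_mul, one_mul]
        omega
      rw [hexp, pow_add]
      calc 240100 * (a ^ 2 * ct) = a ^ 2 * (240100 * ct) := by ring
        _ ≤ a ^ 2 * (1425600 * 11 ^ (D - 2) * 30) := Nat.mul_le_mul_left _ h
        _ = 1425600 * 11 ^ (D - 2) * (30 * a ^ 2) := by ring
        _ ≤ 1425600 * 11 ^ (D - 2) * 11 ^ ((a - 1) * D) := Nat.mul_le_mul_left _ h30
        _ = _ := by ring
  have mono : ∀ D0 : ℕ, D0 ≤ D → 11 ^ (D0 - 2) ≤ 11 ^ (D - 2) := fun D0 h =>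
    Nat.pow_le_pow_right (by norm_num) (by omega)
  have hif : 1 ≤ (if a = 1 then 1 else 30 : ℕ) := by split_ifs <;> norm_num
  have low : ∀ D0 N, D0 ≤ D → ct ≤ N → 240100 * N ≤ 1425600 * 11 ^ (D0 - 2) →
      2401 * p ^ 2 * (a ^ 2 * D * ct) ≤ 14400 * (p ^ (a * D) - 1) * (D + kb - 1) :=
    fun D0 N h1 h2 h3 => plain1 (((Nat.mul_le_mul_left _ h2).trans h3).trans
      ((Nat.mul_le_mul_left _ (mono D0 h1)).trans (Nat.le_mul_of_pos_right _ hif)))
  have low30 : a ≠ 1 → ∀ D0 N, D0 ≤ D → ct ≤ N →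
      240100 * N ≤ 1425600 * 11 ^ (D0 - 2) * 30 →
      2401 * p ^ 2 * (a ^ 2 * D * ct) ≤ 14400 * (p ^ (a * D) - 1) * (D + kb - 1) :=
    fun ha1 D0 N h1 h2 h3 => plain1 (by
      rw [if_neg ha1]
      exact ((Nat.mul_le_mul_left _ h2).trans h3).trans
        (Nat.mul_le_mul_right _ (Nat.mul_le_mul_left _ (mono D0 h1))))
  obtain rfl | rfl | rfl | rfl | rfl | ⟨h5, h8'⟩ :
      e = 1 ∨ e = 2 ∨ e = 3 ∨ e = 4 ∨ e = 8 ∨ (5 ≤ e ∧ e ≠ 8) := by omega
  · left
    rw [hspB1] at hy
    exact low 2 1 (by omega) (by simp [hct]; omega) (by norm_num)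
  · have hy6 : y ≤ 6 := Nat.le_of_dvd (by norm_num) (h2 rfl)
    by_cases hex : a = 1 ∧ D = 2
    · obtain ⟨rfl, rfl⟩ := hex
      by_cases hy' : y = 6
      · exact Or.inr (Or.inl ⟨rfl, rfl, rfl, hy'⟩)
      left
      refine reduce hp le_rfl ?_
      have hy3 : y ≤ 3 := by
        have := h2 rfl
        interval_cases y <;> omega
      have hct' : ct = 4 * y := by rw [hct]; norm_num
      rcases Nat.lt_or_ge 6 ct with h | h
      · have := hk4 h
        norm_num
        omega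
      · rcases Nat.lt_or_ge 2 ct with h' | h'
        · have := hk3 h'
          norm_num
          omega
        · norm_num
          omega
    · left
      have : ct ≤ 24 := by rw [hct]; norm_num; omega
      by_cases ha1 : a = 1
      · exact low 3 24 (by omega) this (by norm_num)
      · exact low30 ha1 2 24 (by omega) this (by norm_num)
  · obtain ⟨hy24, h3a⟩ := h3 rfl
    have hct216 : ct ≤ 216 := by rw [hct]; norm_num; omega
    by_cases hex : a = 1 ∧ D = 3
    · obtain ⟨rfl, rfl⟩ := hex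
      by_cases h42 : ct ≤ 42
      · left
        refine plain1 ?_
        simp only [if_true]
        norm_num
        omega
      have := hk5 (by omega)
      by_cases hp13 : p = 13
      · exact Or.inr (Or.inr ⟨rfl, rfl, rfl, hp13, by omega⟩)
      left
      rw [pow_one] at h3a
      have hp19 : 19 ≤ p := by
        by_contra hlt
        push Not at hlt
        interval_cases p <;> first | omega | norm_num at hpr
      have hb : 2401 * p ^ 2 * (1 ^ 2 * 3 * ct) ≤ 2401 * p ^ 2 * (3 * 216) := by gcongr; omega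
      refine hb.trans ?_
      rw [one_mul]
      obtain ⟨P, hP⟩ := Nat.exists_eq_add_of_le (Nat.one_le_pow 3 p (by omega))
      rw [hP, Nat.add_sub_cancel_left]
      have h7 : 7 ≤ 3 + kb - 1 := by omega
      refine le_trans ?_ (Nat.mul_le_mul_left _ h7)
      have h19 : 19 * p ^ 2 ≤ p ^ 3 := by rw [pow_succ p 2, mul_comm]; exact Nat.mul_le_mul_left _ hp19
      nlinarith [Nat.pow_le_pow_left hp19 2]
    · left
      by_cases ha1 : a = 1
      · exact low 4 216 (by omega) hct216 (by norm_num)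
      · exact low30 ha1 3 216 (by omega) hct216 (by norm_num)
  · have := h4 rfl
    have hct' : ct ≤ 1152 := by rw [hct]; norm_num; omega
    left
    by_cases hex : a = 1 ∧ D = 4
    · obtain ⟨rfl, rfl⟩ := hex
      by_cases h42 : ct ≤ 42
      · refine plain1 ?_
        simp only [if_true]
        norm_num
        omega
      have := hk5 (by omega)
      refine reduce hp (by norm_num) ?_
      norm_num
      omega
    · by_cases ha1 : a = 1
      · exact low 5 1152 (by omega) hct' (by norm_num)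
      · exact low30 ha1 4 1152 (by omega) hct' (by norm_num)
  · have := h8 rfl
    have hct' : ct ≤ 9289728 := by rw [hct]; norm_num; omega
    left
    exact low 8 9289728 (by omega) hct' (by norm_num)
  · left
    refine plain1 ?_
    calc 240100 * ct ≤ 1425600 * 11 ^ (e - 2) := layer_large h5 h8' hy
      _ ≤ 1425600 * 11 ^ (D - 2) := Nat.mul_le_mul_left _ (mono e heD)
      _ ≤ _ := Nat.le_mul_of_pos_right _ hif

theorem mono_base : ∀ m, 4 ≤ m →
    240100 ^ 3 * (24 ^ (m - 1)) ^ 2 ≤ 1425600 ^ 3 * (11 ^ (m - 2)) ^ 3 := by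
  intro m hm
  induction m, hm using Nat.le_induction with
  | base => norm_num
  | succ m hm ih =>
    rw [show m + 1 - 1 = (m - 1) + 1 by omega, show m + 1 - 2 = (m - 2) + 1 by omega,
      pow_succ 24 (m - 1), pow_succ 11 (m - 2), mul_pow, mul_pow, ← mul_assoc, ← mul_assoc]
    exact Nat.mul_le_mul ih (by norm_num)

/-- the monomial case -/
theorem mono_arith {p m t : ℕ} (hp : 11 ≤ p) (hm : 2 ≤ m) (ht : Good m t) :
    2401 * p ^ 2 * t ^ 2 ≤ 14400 * (p ^ m - 1) := by
  rw [← mul_one (14400 * (p ^ m - 1))]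
  refine reduce hp hm ?_
  rw [mul_one]
  by_cases h4 : m < 4
  · have := ht.2 (by omega)
    interval_cases m
    all_goals simp only [small] at this
    all_goals interval_cases t <;> norm_num
  · have h3 : t ^ 3 ≤ 24 ^ (m - 1) := by
      refine Nat.le_of_mul_le_mul_left (ht.1.trans ?_) (show 0 < 24 by norm_num)
      rw [← pow_succ', Nat.sub_add_cancel (by omega)]
    refine (Nat.pow_le_pow_iff_left (n := 3) (by norm_num)).1 ?_
    calc (240100 * t ^ 2) ^ 3 = 240100 ^ 3 * (t ^ 3) ^ 2 := by ring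
      _ ≤ 240100 ^ 3 * (24 ^ (m - 1)) ^ 2 := by gcongr
      _ ≤ 1425600 ^ 3 * (11 ^ (m - 2)) ^ 3 := mono_base m (by omega)
      _ = _ := by ring

/-- the exceptional layer of order twenty four -/
theorem arith_two {p z j m s x kH : ℕ} (hp : 11 ≤ p) (hpr : p.Prime) (hz : z * j = p - 1)
    (hm : 1 ≤ m) (hs : p ^ 2 - 1 ≤ s * (24 * z)) (hk : 4 * z ≤ m * kH) (hx : s * m ≤ x) :
    49 * p ≤ 60 * (kH + x) := by
  have hj : 1 ≤ j := by
    rcases Nat.eq_zero_or_pos j with rfl | h
    · omega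
    · exact h
  set J := j * m with hJdef
  have hJ : 1 ≤ J := Nat.mul_pos hj hm
  have hsq : p ^ 2 - 1 = (p + 1) * (p - 1) := by
    obtain ⟨r, rfl⟩ := Nat.exists_eq_add_of_le (show 1 ≤ p by omega)
    have : (1 + r) ^ 2 = (1 + r + 1) * r + 1 := by ring
    rw [this, Nat.add_sub_cancel, Nat.add_sub_cancel_left]
  have hJx : (p + 1) * J ≤ 24 * x := by
    refine Nat.le_of_mul_le_mul_left ?_ (show 0 < p - 1 by omega)
    calc (p - 1) * ((p + 1) * J) = (p ^ 2 - 1) * J := by rw [hsq]; ring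
      _ ≤ s * (24 * z) * (j * m) := Nat.mul_le_mul_right _ hs
      _ = (z * j) * (24 * (s * m)) := by ring
      _ ≤ (p - 1) * (24 * x) := by rw [hz]; gcongr
  have hJk : 4 * (p - 1) ≤ J * kH :=
    calc 4 * (p - 1) = 4 * z * j := by rw [← hz]; ring
      _ ≤ m * kH * j := Nat.mul_le_mul_right _ hk
      _ = _ := by rw [hJdef]; ring
  have hsj : (p + 1) * j ≤ 24 * s := by
    refine Nat.le_of_mul_le_mul_left ?_ (show 0 < p - 1 by omega)
    calc (p - 1) * ((p + 1) * j) = (p ^ 2 - 1) * j := by rw [hsq]; ring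
      _ ≤ s * (24 * z) * j := Nat.mul_le_mul_right _ hs
      _ = (z * j) * (24 * s) := by ring
      _ = (p - 1) * (24 * s) := by rw [hz]
  obtain ⟨r, rfl⟩ := Nat.exists_eq_add_of_le (show 1 ≤ p by omega)
  rw [Nat.add_sub_cancel_left] at hJk hz
  clear_value J
  by_cases hJ9 : J = 9
  · rw [hJ9] at hJx hJk
    by_cases hp29 : 24 ≤ r
    · omega
    · have hj9 : j * m = 9 := by rw [← hJdef, hJ9]
      have hjd := Nat.le_of_dvd (by norm_num) (Dvd.intro m hj9)
      rcases (show (j = 1 ∧ m = 9) ∨ (j = 3 ∧ m = 3) ∨ (j = 9 ∧ m = 1) by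
        interval_cases j <;> omega) with ⟨rfl, rfl⟩ | ⟨rfl, rfl⟩ | ⟨rfl, rfl⟩ <;>
        interval_cases r <;> first | omega | norm_num at hpr
  · by_contra hc
    have hc' : 60 * (kH + x) + 1 ≤ 49 * (1 + r) := by omega
    rcases Nat.lt_or_ge J 9 with h | h
    · interval_cases J <;> omega
    · rcases (show J = 10 ∨ 11 ≤ J by omega) with h' | h'
      · rw [h'] at hJx hJk; omega
      · have e1 : 5 * ((1 + r + 1) * J) * J + 480 * r ≤ 120 * J * (kH + x) := by
          have := Nat.mul_le_mul_right J hJx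
          nlinarith
        have e2 : 120 * J * (kH + x) + 2 * J ≤ 98 * (1 + r) * J := by
          have := Nat.mul_le_mul_left (2 * J) hc'
          nlinarith
        obtain ⟨u, rfl⟩ := Nat.exists_eq_add_of_le h'
        nlinarith [Nat.zero_le (r * u * u), Nat.zero_le (r * u), Nat.zero_le (u * u)]

/-- the exceptional layer at thirteen -/
theorem arith_three13 {z m s x kH k1 ct : ℕ} (hz : z ∣ 12) (hz3 : 3 ∣ z) (hm : 1 ≤ m)
    (hct : ct ≤ 216) (hs : 13 ^ 3 - 1 ≤ s * (z * ct)) (hk1 : 7 * z ≤ 3 * k1)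
    (hk : k1 ≤ m * kH) (hx : s * m ≤ x) : 49 * 13 ≤ 60 * (kH + x) := by
  by_contra hc
  have hz12 := Nat.le_of_dvd (by norm_num) hz
  have hs' : 13 ^ 3 - 1 ≤ s * (z * 216) := hs.trans (by gcongr)
  norm_num at hs' hc
  have h10 : kH + x ≤ 10 := by omega
  have hs0 : 1 ≤ s := by
    rcases Nat.eq_zero_or_pos s with rfl | h
    · simp at hs'
    · exact h
  have hm10 : m ≤ 10 := by nlinarith
  rcases (show z = 3 ∨ z = 6 ∨ z = 12 by interval_cases z <;> omega) with rfl | rfl | rfl <;>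
    interval_cases m <;> omega

end Cfsg.Agent.ClassNumber
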