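import Mathlib

/-!
# Counting classes of a group with a normal subgroup; groups with very few classes
-/

set_option autoImplicit false

namespace Cfsg.Agent.ClassNumber

variable {G : Type*} [Group G]

/-- the classes meeting a subgroup away from the identity -/
noncomputable def cls (N : Subgroup G) : ℕ :=
  (ConjClasses.mk '' {g : G | g ∈ N ∧ g ≠ 1}).ncard

theorem card_quot_add_cls_le [Finite G] (N : Subgroup G) [N.Normal] :
    Nat.card (ConjClasses (G ⧸ N)) + cls N ≤ Nat.card (ConjClasses G) := by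
  classical
  have hs : Function.Surjective (ConjClasses.map (QuotientGroup.mk' N)) :=
    ConjClasses.map_surjective (QuotientGroup.mk'_surjective N)
  let σ : ConjClasses (G ⧸ N) → ConjClasses G := fun c =>
    if c = ConjClasses.mk 1 then ConjClasses.mk 1 else Function.surjInv hs c
  have hσ : ∀ c, ConjClasses.map (QuotientGroup.mk' N) (σ c) = c := by
    intro c
    simp only [σ]
    split_ifs with h
    · rw [h]; rfl
    · exact Function.surjInv_eq hs c
  have hinj : Function.Injective σ := fun a b h => by rw [← hσ a, ← hσ b, h]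
  have hdisj : Disjoint (Set.range σ) (ConjClasses.mk '' {g : G | g ∈ N ∧ g ≠ 1}) := by
    rw [Set.disjoint_left]
    rintro _ ⟨c, rfl⟩ ⟨g, ⟨hg, hg1⟩, he⟩
    have hc : c = ConjClasses.mk 1 := by
      rw [← hσ c, ← he]
      show ConjClasses.mk (QuotientGroup.mk' N g) = _
      rw [QuotientGroup.mk'_apply, (QuotientGroup.eq_one_iff g).2 hg]
    simp only [σ, hc, if_true] at he
    rw [ConjClasses.mk_eq_mk_iff_isConj, isConj_one_left] at he
    exact hg1 he
  calc Nat.card (ConjClasses (G ⧸ N)) + cls N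
      = (Set.range σ).ncard + cls N := by rw [Set.ncard_range_of_injective hinj]
    _ = (Set.range σ ∪ ConjClasses.mk '' {g : G | g ∈ N ∧ g ≠ 1}).ncard :=
        (Set.ncard_union_eq hdisj (Set.toFinite _) (Set.toFinite _)).symm
    _ ≤ _ := Set.ncard_le_card _

/-- a bound by the number of fibres -/
theorem ncard_le_mul {α β : Type*} (f : α → β) (S : Set α) (hS : S.Finite) (M : ℕ)
    (h : ∀ a ∈ S, {x ∈ S | f x = f a}.ncard ≤ M) : S.ncard ≤ (f '' S).ncard * M := by
  classical
  lift S to Finset α using hS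
  rw [← Finset.coe_image, Set.ncard_coe_finset, Set.ncard_coe_finset, mul_comm]
  refine Finset.card_le_mul_card_image _ M fun b hb => ?_
  obtain ⟨a, ha, rfl⟩ := Finset.mem_image.1 hb
  refine le_of_eq_of_le ?_ (h a (Finset.mem_coe.2 ha))
  rw [← Set.ncard_coe_finset]
  congr 1
  ext x; simp

theorem card_sub_one_le_cls_mul [Finite G] (N : Subgroup G) [N.Normal]
    (hN : ∀ a ∈ N, ∀ b ∈ N, a * b = b * a) :
    Nat.card N - 1 ≤ cls N * Nat.card (G ⧸ N) := by
  classical
  have hS : {g : G | g ∈ N ∧ g ≠ 1}.ncard = Nat.card N - 1 := by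
    have : {g : G | g ∈ N ∧ g ≠ 1} = (N : Set G) \ {1} := rfl
    rw [this, Set.ncard_diff_singleton_of_mem N.one_mem]
    rfl
  rw [← hS]
  refine ncard_le_mul _ _ (Set.toFinite _) _ fun a ha => ?_
  let f : G ⧸ N → G := fun q => q.out * a * q.out⁻¹
  have hsub : {x ∈ {g : G | g ∈ N ∧ g ≠ 1} | ConjClasses.mk x = ConjClasses.mk a} ⊆
      Set.range f := by
    rintro x ⟨-, hx⟩
    rw [ConjClasses.mk_eq_mk_iff_isConj, isConj_comm, isConj_iff] at hx
    obtain ⟨c, rfl⟩ := hx
    obtain ⟨n, hn⟩ := QuotientGroup.mk_out_eq_mul N c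
    refine ⟨(c : G ⧸ N), ?_⟩
    show (c : G ⧸ N).out * a * ((c : G ⧸ N).out)⁻¹ = c * a * c⁻¹
    rw [hn, mul_assoc c, hN _ n.2 a ha.1]
    group
  calc _ ≤ (Set.range f).ncard := Set.ncard_le_ncard hsub (Set.toFinite _)
    _ ≤ _ := by rw [← Set.image_univ, ← Set.ncard_univ]; exact Set.ncard_image_le (Set.toFinite _)

theorem arith_three {n a b : ℕ} (hab : a ≤ b) (hbn : b ≤ n) (ha : 2 ≤ a)
    (h : a * b * n = a * b + b * n + a * n) : n ≤ 6 := by
  have ha3 : a ≤ 3 := by
    by_contra hc
    nlinarith [Nat.mul_le_mul (show 4 ≤ a by omega) (le_refl (b * n)),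
      Nat.mul_le_mul (hab.trans hbn) (le_refl b), Nat.mul_le_mul hab (le_refl n)]
  have hb4 : b ≤ 4 := by
    by_contra hc
    interval_cases a <;> nlinarith
  interval_cases a <;> interval_cases b <;> omega

theorem arith_four {n a b c : ℕ} (hab : a ≤ b) (hbc : b ≤ c) (hcn : c ≤ n) (ha : 2 ≤ a)
    (h : a * b * c * n = a * b * c + b * c * n + a * c * n + a * b * n) : n ≤ 42 := by
  have ha4 : a ≤ 4 := by
    by_contra hc
    have : 0 < b * c * n := Nat.mul_pos (Nat.mul_pos (by omega) (by omega)) (by omega)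
    nlinarith [Nat.mul_le_mul (show 5 ≤ a by omega) (le_refl (b * c * n)),
      Nat.mul_le_mul (hab.trans (hbc.trans hcn)) (le_refl (b * c)),
      Nat.mul_le_mul hab (le_refl (c * n)), Nat.mul_le_mul (hab.trans hbc) (le_refl (b * n))]
  have hb6 : b ≤ 6 := by
    by_contra hc
    interval_cases a <;> nlinarith [Nat.mul_le_mul (hbc.trans hcn) (le_refl c),
      Nat.mul_le_mul hbc (le_refl n), Nat.mul_le_mul (show 7 ≤ b by omega) (le_refl (c * n))]
  have hc12 : c ≤ 12 := by
    by_contra hc
    interval_cases a <;> interval_cases b <;>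
      nlinarith [Nat.mul_le_mul (show 13 ≤ c by omega) (le_refl n)]
  interval_cases a <;> interval_cases b <;> interval_cases c <;> omega

/-- a group with at most four classes is small -/
theorem card_le_of_few [Finite G] :
    (Nat.card (ConjClasses G) ≤ 2 → Nat.card G ≤ 2) ∧
      (Nat.card (ConjClasses G) ≤ 3 → Nat.card G ≤ 6) ∧
        (Nat.card (ConjClasses G) ≤ 4 → Nat.card G ≤ 42) := by
  classical
  have := Fintype.ofFinite G
  have := Fintype.ofFinite (ConjClasses G)
  set n := Nat.card G with hn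
  have hn0 : 0 < n := Nat.card_pos
  set s : Finset (ConjClasses G) := Finset.univ.erase (ConjClasses.mk 1) with hs
  have hcard : s.card + 1 = Nat.card (ConjClasses G) := by
    rw [hs, Finset.card_erase_add_one (Finset.mem_univ _), Finset.card_univ,
      Nat.card_eq_fintype_card]
  have h1 : ((ConjClasses.mk (1 : G)).carrier).ncard = 1 := by
    have : (ConjClasses.mk (1 : G)).carrier = {1} := by
      ext g
      rw [ConjClasses.mem_carrier_iff_mk_eq, Set.mem_singleton_iff,
        ConjClasses.mk_eq_mk_iff_isConj, isConj_one_left]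
    rw [this, Set.ncard_singleton]
  have hsum : 1 + ∑ x ∈ s, x.carrier.ncard = n := by
    rw [← h1, hs, Finset.add_sum_erase _ (fun x : ConjClasses G => x.carrier.ncard)
      (Finset.mem_univ _), hn, ← Group.sum_card_conj_classes_eq_card,
      finsum_eq_sum_of_fintype]
  have hsize : ∀ x ∈ s, ∃ a, 2 ≤ a ∧ a ≤ n ∧ a * x.carrier.ncard = n := by
    intro x hx
    induction x using Quotient.inductionOn with
    | h g =>
      have e : (ConjClasses.mk g).carrier = MulAction.orbit (ConjAct G) g := by
        ext y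
        rw [ConjClasses.mem_carrier_iff_mk_eq, ConjClasses.mk_eq_mk_iff_isConj,
          ConjAct.mem_orbit_conjAct, isConj_comm]
      have hd : (ConjClasses.mk g).carrier.ncard ∣ n := by
        rw [e, ← MulAction.index_stabilizer, hn,
          show Nat.card G = Nat.card (ConjAct G) from rfl]
        exact Subgroup.index_dvd_card _
      obtain ⟨a, ha⟩ := hd
      have hpos : 0 < (ConjClasses.mk g).carrier.ncard :=
        (Set.ncard_pos (Set.toFinite _)).2 ⟨g, ConjClasses.mem_carrier_mk⟩
      have hlt : (ConjClasses.mk g).carrier.ncard < n := by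
        have := Finset.single_le_sum (f := fun x : ConjClasses G => x.carrier.ncard)
          (fun _ _ => Nat.zero_le _) hx
        change (ConjClasses.mk g).carrier.ncard ≤ _ at this
        omega
      change ∃ a, 2 ≤ a ∧ a ≤ n ∧ a * (ConjClasses.mk g).carrier.ncard = n
      refine ⟨a, ?_, ?_, by rw [mul_comm, ← ha]⟩
      · by_contra h2
        interval_cases a <;> omega
      · calc a ≤ (ConjClasses.mk g).carrier.ncard * a := Nat.le_mul_of_pos_left a hpos
          _ = n := ha.symm
  obtain hs0 | hs1 | hs2 | hs3 | hs4 :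
      s.card = 0 ∨ s.card = 1 ∨ s.card = 2 ∨ s.card = 3 ∨ 4 ≤ s.card := by omega
  · rw [Finset.card_eq_zero.1 hs0, Finset.sum_empty] at hsum
    refine ⟨?_, ?_, ?_⟩ <;> intro <;> omega
  · obtain ⟨x, hx⟩ := Finset.card_eq_one.1 hs1
    obtain ⟨a, ha2, han, hax⟩ := hsize x (by rw [hx]; simp)
    rw [hx, Finset.sum_singleton] at hsum
    have : n ≤ 2 := by nlinarith
    refine ⟨?_, ?_, ?_⟩ <;> intro <;> omega
  · obtain ⟨x, y, hxy, hx⟩ := Finset.card_eq_two.1 hs2
    obtain ⟨a, ha2, han, hax⟩ := hsize x (by rw [hx]; simp)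
    obtain ⟨b, hb2, hbn, hby⟩ := hsize y (by rw [hx]; simp)
    rw [hx, Finset.sum_pair hxy] at hsum
    have e : a * b * n = a * b + b * n + a * n := by
      calc a * b * n = a * b * (1 + (x.carrier.ncard + y.carrier.ncard)) := by rw [hsum]
        _ = a * b + b * (a * x.carrier.ncard) + a * (b * y.carrier.ncard) := by ring
        _ = _ := by rw [hax, hby]
    have : n ≤ 6 := by
      rcases le_total a b with h | h
      · exact arith_three h hbn ha2 e
      · exact arith_three h han hb2 (by rw [mul_comm b a]; linarith)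
    refine ⟨?_, ?_, ?_⟩ <;> intro <;> omega
  · obtain ⟨x, y, z, hxy, hxz, hyz, hx⟩ := Finset.card_eq_three.1 hs3
    obtain ⟨a, ha2, han, hax⟩ := hsize x (by rw [hx]; simp)
    obtain ⟨b, hb2, hbn, hby⟩ := hsize y (by rw [hx]; simp)
    obtain ⟨c, hc2, hcn, hcz⟩ := hsize z (by rw [hx]; simp)
    rw [hx, Finset.sum_insert (by simp [hxy, hxz]), Finset.sum_pair hyz] at hsum
    have e : a * b * c * n = a * b * c + b * c * n + a * c * n + a * b * n := by
      calc a * b * c * n
          = a * b * c * (1 + (x.carrier.ncard + (y.carrier.ncard + z.carrier.ncard))) := by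
            rw [hsum]
        _ = a * b * c + b * c * (a * x.carrier.ncard) + a * c * (b * y.carrier.ncard) +
              a * b * (c * z.carrier.ncard) := by ring
        _ = _ := by rw [hax, hby, hcz]
    have : n ≤ 42 := by
      rcases le_total a b with h1 | h1 <;> rcases le_total b c with h2 | h2 <;>
        rcases le_total a c with h3 | h3
      · exact arith_four h1 h2 hcn ha2 e
      · exact arith_four h1 h2 hcn ha2 e
      · exact arith_four h3 h2 hbn ha2 (by ring_nf at e ⊢; linarith)
      · exact arith_four h3 h1 hbn hc2 (by ring_nf at e ⊢; linarith)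
      · exact arith_four h1 h3 hcn hb2 (by ring_nf at e ⊢; linarith)
      · exact arith_four h2 h3 han hb2 (by ring_nf at e ⊢; linarith)
      · exact arith_four h2 h1 han hc2 (by ring_nf at e ⊢; linarith)
      · exact arith_four h2 h1 han hc2 (by ring_nf at e ⊢; linarith)
    refine ⟨?_, ?_, ?_⟩ <;> intro <;> omega
  · refine ⟨?_, ?_, ?_⟩ <;> intro <;> omega

/-- the square root of the product bounds the sum -/
theorem of_prod {p x y : ℕ} (h : 2401 * p ^ 2 ≤ 14400 * (x * y)) : 49 * p ≤ 60 * (x + y) := by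
  by_contra hc
  have h1 : (60 * (x + y) + 1) ^ 2 ≤ (49 * p) ^ 2 := Nat.pow_le_pow_left (by omega) 2
  zify at h h1
  nlinarith [sq_nonneg ((x : ℤ) - y)]

end Cfsg.Agent.ClassNumber
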