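import Mathlib
import Cfsg.Agent.Lib.ClassNumber.Count
import Cfsg.Agent.Lib.Counting.Commuting

/-!
# Systems of imprimitivity as systems of idempotents
-/

set_option autoImplicit false

namespace Cfsg.Agent.ClassNumber

variable {k : Type*} [Field k] {H : Type*} [Group H] {V : Type*} [AddCommGroup V] [Module k V]

/-- the orbit of a vector -/
def orb (ρ : Representation k H V) (v : V) : Set V := Set.range fun h => ρ h v

/-- the number of orbits on the nonzero vectors -/
noncomputable def orbs (ρ : Representation k H V) : ℕ := (orb ρ '' {v | v ≠ 0}).ncard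

/-- irreducibility -/
def Irr (ρ : Representation k H V) : Prop :=
  ∀ U : Submodule k V, (∀ h : H, ∀ u ∈ U, ρ h u ∈ U) → U = ⊥ ∨ U = ⊤

/-- conjugation of operators -/
def cj (ρ : Representation k H V) (h : H) (e : Module.End k V) : Module.End k V :=
  ρ h * e * ρ h⁻¹

variable (ρ : Representation k H V)

theorem rho_inv (h : H) : ρ h⁻¹ * ρ h = 1 := by rw [← map_mul, inv_mul_cancel, map_one]

theorem rho_inv' (h : H) : ρ h * ρ h⁻¹ = 1 := by rw [← map_mul, mul_inv_cancel, map_one]

theorem rho_inv_apply (h : H) (v : V) : ρ h⁻¹ (ρ h v) = v := LinearMap.congr_fun (rho_inv ρ h) v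

theorem rho_inv_apply' (h : H) (v : V) : ρ h (ρ h⁻¹ v) = v := LinearMap.congr_fun (rho_inv' ρ h) v

theorem cj_one (e : Module.End k V) : cj ρ 1 e = e := by simp [cj]

theorem cj_cj (g h : H) (e : Module.End k V) : cj ρ g (cj ρ h e) = cj ρ (g * h) e := by
  simp only [cj, map_mul, mul_inv_rev]
  simp only [mul_assoc]

theorem cj_mul (h : H) (e f : Module.End k V) : cj ρ h e * cj ρ h f = cj ρ h (e * f) := by
  simp only [cj, mul_assoc]
  rw [← mul_assoc (ρ h⁻¹) (ρ h), rho_inv, one_mul]

theorem cj_apply (h : H) (e : Module.End k V) (v : V) : cj ρ h e (ρ h v) = ρ h (e v) := by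
  show ρ h (e (ρ h⁻¹ (ρ h v))) = _
  rw [rho_inv_apply]

theorem cj_injective (h : H) : Function.Injective (cj ρ h) := fun e f he => by
  have := congrArg (cj ρ h⁻¹) he
  rwa [cj_cj, cj_cj, inv_mul_cancel, cj_one, cj_one] at this

theorem cj_zero (h : H) : cj ρ h 0 = 0 := by simp [cj]

theorem cj_sum (h : H) {ι : Type*} (s : Finset ι) (f : ι → Module.End k V) :
    cj ρ h (∑ i ∈ s, f i) = ∑ i ∈ s, cj ρ h (f i) := by
  simp only [cj, Finset.mul_sum, Finset.sum_mul]

/-- a system of orthogonal idempotents permuted by the group -/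
structure System (E : Finset (Module.End k V)) : Prop where
  idem : ∀ e ∈ E, e * e = e
  ne : ∀ e ∈ E, e ≠ 0
  orth : ∀ e ∈ E, ∀ f ∈ E, e ≠ f → e * f = 0
  sum : ∑ e ∈ E, e = 1
  stable : ∀ h : H, ∀ e ∈ E, cj ρ h e ∈ E

/-- no system with two members -/
def Prim : Prop := Irr ρ ∧ ∀ E : Finset (Module.End k V), System ρ E → E.card ≤ 1

variable {ρ}

theorem System.transitive (hirr : Irr ρ) {E : Finset (Module.End k V)} (hE : System ρ E)
    [Finite H] {e f : Module.End k V} (he : e ∈ E) (hf : f ∈ E) : ∃ h, cj ρ h e = f := by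
  classical
  haveI := Fintype.ofFinite H
  by_contra hne
  push Not at hne
  set O : Finset (Module.End k V) := Finset.univ.image fun h => cj ρ h e with hO
  have hOE : O ⊆ E := fun x hx => by
    obtain ⟨h, -, rfl⟩ := Finset.mem_image.1 hx
    exact hE.stable h e he
  set s := ∑ x ∈ O, x with hs
  have hcj : ∀ h, cj ρ h s = s := by
    intro h
    rw [hs, cj_sum]
    refine Finset.sum_bij (fun x _ => cj ρ h x) (fun x hx => ?_)
      (fun x _ y _ hxy => cj_injective ρ h hxy) (fun y hy => ?_) (fun x _ => rfl)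
    · obtain ⟨g, -, rfl⟩ := Finset.mem_image.1 hx
      exact Finset.mem_image.2 ⟨h * g, Finset.mem_univ _, (cj_cj ρ h g e).symm⟩
    · obtain ⟨g, -, rfl⟩ := Finset.mem_image.1 hy
      exact ⟨cj ρ (h⁻¹ * g) e, Finset.mem_image.2 ⟨_, Finset.mem_univ _, rfl⟩, by
        rw [cj_cj, mul_inv_cancel_left]⟩
  have hfs : f * s = 0 := by
    rw [hs, Finset.mul_sum]
    refine Finset.sum_eq_zero fun x hx => ?_
    obtain ⟨g, -, rfl⟩ := Finset.mem_image.1 hx
    exact hE.orth _ hf _ (hOE hx) (fun h => hne g h.symm)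
  have hes : e * s = e := by
    have he' : e ∈ O := Finset.mem_image.2 ⟨1, Finset.mem_univ _, cj_one ρ e⟩
    rw [hs, Finset.mul_sum, Finset.sum_eq_single_of_mem e he' fun x hx hxe =>
      hE.orth _ he _ (hOE hx) (Ne.symm hxe), hE.idem e he]
  rcases hirr (LinearMap.range s) (fun h u hu => by
      obtain ⟨w, rfl⟩ := hu
      exact ⟨ρ h w, by rw [← cj_apply ρ h s w, hcj]⟩) with h0 | h1
  · rw [LinearMap.range_eq_bot] at h0
    rw [h0, mul_zero] at hes
    exact hE.ne e he hes.symm
  · refine hE.ne f hf (LinearMap.ext fun v => ?_)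
    obtain ⟨w, rfl⟩ : v ∈ LinearMap.range s := h1 ▸ Submodule.mem_top
    exact LinearMap.congr_fun hfs w

/-- some positive power is idempotent -/
theorem exists_pow_idem {M : Type*} [Monoid M] [Finite M] (x : M) :
    ∃ n, 0 < n ∧ x ^ n * x ^ n = x ^ n := by
  obtain ⟨i, j, hne, he⟩ := Finite.exists_ne_map_eq_of_infinite (fun n : ℕ => x ^ n)
  wlog hij : i < j generalizing i j
  · exact this j i (Ne.symm hne) he.symm (by omega)
  have he : x ^ i = x ^ j := he
  have hper : ∀ t m, i ≤ m → x ^ (m + t * (j - i)) = x ^ m := by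
    intro t
    induction t with
    | zero => intro m _; simp
    | succ t ih =>
      intro m hm
      rw [show m + (t + 1) * (j - i) = (m + (j - i)) + t * (j - i) by ring, ih _ (by omega),
        show m + (j - i) = j + (m - i) by omega, pow_add, ← he, ← pow_add]
      congr 1
      omega
  refine ⟨(i + 1) * (j - i), Nat.mul_pos (by omega) (by omega), ?_⟩
  rw [← pow_add, hper (i + 1)]
  nlinarith [Nat.le_mul_of_pos_right (i + 1) (show 0 < j - i by omega)]

/-- commuting nilpotent operators have a common kernel -/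
theorem exists_common_kernel [Nontrivial V] (s : Finset (Module.End k V))
    (hn : ∀ x ∈ s, IsNilpotent x) (hc : ∀ x ∈ s, ∀ y ∈ s, x * y = y * x) :
    ∃ v : V, v ≠ 0 ∧ ∀ x ∈ s, x v = 0 := by
  classical
  induction s using Finset.induction with
  | empty =>
    obtain ⟨v, hv⟩ := exists_ne (0 : V)
    exact ⟨v, hv, by simp⟩
  | insert a s ha ih =>
    obtain ⟨v, hv, hk⟩ := ih (fun x hx => hn x (Finset.mem_insert_of_mem hx))
      fun x hx y hy => hc x (Finset.mem_insert_of_mem hx) y (Finset.mem_insert_of_mem hy)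
    obtain ⟨N, hN⟩ := hn a (Finset.mem_insert_self a s)
    have hex : ∃ j, (a ^ j) v = 0 := ⟨N, by rw [hN]; rfl⟩
    set j := Nat.find hex with hj
    have hj0 : j ≠ 0 := fun h => by
      have := Nat.find_spec hex
      rw [← hj, h, pow_zero] at this
      exact hv this
    refine ⟨(a ^ (j - 1)) v, Nat.find_min hex (by omega), fun x hx => ?_⟩
    rcases Finset.mem_insert.1 hx with rfl | hx'
    · rw [← Module.End.mul_apply, ← pow_succ', Nat.sub_add_cancel (by omega)]
      exact Nat.find_spec hex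
    · have hcx : Commute x (a ^ (j - 1)) :=
        (show Commute x a from hc x hx a (Finset.mem_insert_self a s)).pow_right _
      rw [← Module.End.mul_apply, hcx.eq, Module.End.mul_apply, hk x hx', map_zero]

/-- an abelian normal subgroup of a primitive group generates a field -/
theorem Prim.isField [Finite H] [Finite V] [Nontrivial V] (hp : Prim ρ) (A : Subgroup H)
    [hAn : A.Normal] (hA : ∀ a ∈ A, ∀ b ∈ A, a * b = b * a) :
    IsField (Algebra.adjoin k (ρ '' (A : Set H))) := by
  classical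
  set K := Algebra.adjoin k (ρ '' (A : Set H)) with hKdef
  haveI : Finite (Module.End k V) := DFunLike.finite _
  have := Fintype.ofFinite (Module.End k V)
  have hcomm : ∀ x ∈ K, ∀ y ∈ K, x * y = y * x := by
    intro x hx y hy
    letI := Algebra.adjoinCommRingOfComm k (s := ρ '' (A : Set H)) (by
      rintro _ ⟨a, ha, rfl⟩ _ ⟨b, hb, rfl⟩
      rw [← map_mul, hA a ha b hb, map_mul])
    exact congrArg Subtype.val (mul_comm (⟨x, hx⟩ : K) ⟨y, hy⟩)
  have hcjK : ∀ (h : H), ∀ x ∈ K, cj ρ h x ∈ K := by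
    intro h x hx
    induction hx using Algebra.adjoin_induction with
    | mem y hy =>
      obtain ⟨a, ha, rfl⟩ := hy
      refine Algebra.subset_adjoin ⟨h * a * h⁻¹, hAn.conj_mem a ha h, ?_⟩
      simp [cj, map_mul]
    | algebraMap r =>
      have : cj ρ h (algebraMap k (Module.End k V) r) = algebraMap k (Module.End k V) r := by
        rw [cj, ← Algebra.commutes, mul_assoc, rho_inv', mul_one]
      rw [this]
      exact K.algebraMap_mem r
    | add y z _ _ hy hz =>
      rw [cj, mul_add, add_mul]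
      exact K.add_mem hy hz
    | mul y z _ _ hy hz =>
      rw [← cj_mul]
      exact K.mul_mem hy hz
  -- no nilpotent elements
  have hred : ∀ x ∈ K, IsNilpotent x → x = 0 := by
    set S := Finset.univ.filter fun x : Module.End k V => x ∈ K ∧ IsNilpotent x with hS
    obtain ⟨v, hv, hk⟩ := exists_common_kernel S (fun x hx => (Finset.mem_filter.1 hx).2.2)
      fun x hx y hy => hcomm x (Finset.mem_filter.1 hx).2.1 y (Finset.mem_filter.1 hy).2.1
    let U : Submodule k V := ⨅ x ∈ S, LinearMap.ker x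
    have hU : ∀ w, w ∈ U ↔ ∀ x ∈ S, x w = 0 := fun w => by
      simp [U, Submodule.mem_iInf, LinearMap.mem_ker]
    rcases hp.1 U (fun h w hw => (hU _).2 fun x hx => by
        have hx' : cj ρ h⁻¹ x ∈ S := by
          obtain ⟨hxK, n, hn⟩ := (Finset.mem_filter.1 hx).2
          refine Finset.mem_filter.2 ⟨Finset.mem_univ _, hcjK _ _ hxK, ⟨n + 1, ?_⟩⟩
          have : ∀ m, cj ρ h⁻¹ x ^ (m + 1) = cj ρ h⁻¹ (x ^ (m + 1)) := by
            intro m
            induction m with
            | zero => simp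
            | succ m ih => rw [pow_succ, ih, cj_mul, ← pow_succ]
          rw [this, pow_succ, hn, zero_mul, cj_zero]
        have h1 := (hU w).1 hw _ hx'
        change ρ h⁻¹ (x (ρ (h⁻¹)⁻¹ w)) = 0 at h1
        rw [inv_inv] at h1
        have h2 := congrArg (ρ h) h1
        rwa [rho_inv_apply', map_zero] at h2) with h0 | h1
    · exact absurd ((Submodule.eq_bot_iff U).1 h0 v ((hU v).2 hk)) hv
    · intro x hxK hx
      refine LinearMap.ext fun w => ?_
      exact (hU w).1 (h1 ▸ Submodule.mem_top) x (Finset.mem_filter.2 ⟨Finset.mem_univ _, hxK, hx⟩)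
  -- atoms
  let I := Finset.univ.filter fun e : Module.End k V => e ∈ K ∧ e * e = e
  have memI : ∀ {e}, e ∈ I ↔ e ∈ K ∧ e * e = e := fun {e} => by simp [I]
  let At := I.filter fun e => e ≠ 0 ∧ ∀ f ∈ I, e * f = 0 ∨ e * f = e
  have memAt : ∀ {e}, e ∈ At ↔ e ∈ I ∧ e ≠ 0 ∧ ∀ f ∈ I, e * f = 0 ∨ e * f = e :=
    fun {e} => by simp [At]
  have hmulI : ∀ {e f}, e ∈ I → f ∈ I → e * f ∈ I := by
    intro e f he hf
    obtain ⟨he, he'⟩ := memI.1 he
    obtain ⟨hf, hf'⟩ := memI.1 hf
    refine memI.2 ⟨K.mul_mem he hf, ?_⟩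
    rw [mul_assoc, ← mul_assoc f e, hcomm f hf e he, mul_assoc e f f, hf', ← mul_assoc, he']
  have hbelow : ∀ n : ℕ, ∀ g ∈ I, g ≠ 0 → (I.filter fun f => f * g = f).card = n →
      ∃ e ∈ At, e * g = e := by
    intro n
    induction n using Nat.strong_induction_on with
    | h n ih => ?_
    intro g hg hg0 hn
    by_cases hat : ∀ f ∈ I, g * f = 0 ∨ g * f = g
    · exact ⟨g, memAt.2 ⟨hg, hg0, hat⟩, (memI.1 hg).2⟩
    push Not at hat
    obtain ⟨f, hf, hgf0, hgf⟩ := hat
    set g' := g * f with hg'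
    have hg'g : g' * g = g' := by
      rw [hg', mul_assoc, hcomm f (memI.1 hf).1 g (memI.1 hg).1, ← mul_assoc, (memI.1 hg).2]
    have hlt : (I.filter fun x => x * g' = x).card < n := by
      rw [← hn]
      refine Finset.card_lt_card ⟨fun x hx => ?_, fun hsub => ?_⟩
      · obtain ⟨hxI, hx⟩ := Finset.mem_filter.1 hx
        refine Finset.mem_filter.2 ⟨hxI, ?_⟩
        conv_lhs => rw [← hx]
        rw [mul_assoc, hg'g, hx]
      · have := (Finset.mem_filter.1 (hsub (Finset.mem_filter.2 ⟨hg, (memI.1 hg).2⟩))).2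
        rw [hcomm g (memI.1 hg).1 g' (memI.1 (hmulI hg hf)).1, hg'g] at this
        exact hgf this
    obtain ⟨e, he, he'⟩ := ih _ hlt g' (hmulI hg hf) hgf0 rfl
    refine ⟨e, he, ?_⟩
    conv_lhs => rw [← he']
    rw [mul_assoc, hg'g, he']
  have horth : ∀ e ∈ At, ∀ f ∈ At, e ≠ f → e * f = 0 := by
    intro e he f hf hne
    obtain ⟨heI, -, he'⟩ := memAt.1 he
    obtain ⟨hfI, -, hf'⟩ := memAt.1 hf
    rcases he' f hfI with h | h
    · exact h
    · rcases hf' e heI with h' | h'
      · rwa [hcomm e (memI.1 heI).1 f (memI.1 hfI).1]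
      · exact absurd (h.symm.trans ((hcomm e (memI.1 heI).1 f (memI.1 hfI).1).trans h')) hne
  have hidem : ∀ e ∈ At, e * e = e := fun e he => (memI.1 (memAt.1 he).1).2
  have hsum : ∑ e ∈ At, e = 1 := by
    set s := ∑ e ∈ At, e with hs
    have hmul : ∀ e ∈ At, e * s = e := fun e he => by
      rw [hs, Finset.mul_sum, Finset.sum_eq_single_of_mem e he fun f hf hne =>
        horth e he f hf (Ne.symm hne), hidem e he]
    have hss : s * s = s := by
      nth_rw 1 [hs]
      rw [Finset.sum_mul]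
      exact Finset.sum_congr rfl hmul
    by_contra hne
    have hsK : s ∈ K := K.sum_mem fun e he => (memI.1 (memAt.1 he).1).1
    have hg : 1 - s ∈ I := memI.2 ⟨K.sub_mem K.one_mem hsK, by
      rw [sub_mul, one_mul, mul_sub, mul_one, hss, sub_self, sub_zero]⟩
    obtain ⟨e, he, he'⟩ := hbelow _ _ hg (sub_ne_zero.2 (Ne.symm hne)) rfl
    rw [mul_sub, mul_one, hmul e he, sub_self] at he'
    exact (memAt.1 he).2.1 he'.symm
  have hsys : System ρ At :=
    { idem := hidem
      ne := fun e he => (memAt.1 he).2.1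
      orth := horth
      sum := hsum
      stable := fun h e he => by
        obtain ⟨heI, he0, he'⟩ := memAt.1 he
        have hI : ∀ g, ∀ x ∈ I, cj ρ g x ∈ I := fun g x hx => memI.2
          ⟨hcjK g x (memI.1 hx).1, by rw [cj_mul, (memI.1 hx).2]⟩
        refine memAt.2 ⟨hI h e heI, fun h0 => he0 (cj_injective ρ h (h0.trans (cj_zero ρ h).symm)),
          fun f hf => ?_⟩
        have e1 : cj ρ h e * f = cj ρ h (e * cj ρ h⁻¹ f) := by
          rw [← cj_mul, cj_cj, mul_inv_cancel, cj_one]
        rcases he' _ (hI h⁻¹ f hf) with h1 | h1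
        · exact Or.inl (by rw [e1, h1, cj_zero])
        · exact Or.inr (by rw [e1, h1]) }
  have hone : At = {1} := by
    have h1 := hp.2 At hsys
    have hne : At.Nonempty := by
      by_contra h
      rw [Finset.not_nonempty_iff_eq_empty.1 h, Finset.sum_empty] at hsum
      exact one_ne_zero hsum.symm
    obtain ⟨a, ha⟩ := Finset.card_eq_one.1 (le_antisymm h1 hne.card_pos)
    rw [ha, Finset.sum_singleton] at hsum
    rw [ha, hsum]
  have hid : ∀ f ∈ I, f = 0 ∨ f = 1 := fun f hf => by
    have := (memAt.1 (show (1 : Module.End k V) ∈ At by simp [hone])).2.2 f hf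
    simpa using this
  refine ⟨⟨0, 1, fun h => one_ne_zero (congrArg Subtype.val h).symm⟩, fun x y =>
    Subtype.ext (hcomm _ x.2 _ y.2), fun {x} hx => ?_⟩
  obtain ⟨n, hn, he⟩ := exists_pow_idem (x : Module.End k V)
  rcases hid _ (memI.2 ⟨K.pow_mem x.2 n, he⟩) with h | h
  · exact absurd (Subtype.ext (hred _ x.2 ⟨n, h⟩)) hx
  · refine ⟨x ^ (n - 1), Subtype.ext ?_⟩
    show (x : Module.End k V) * (x : Module.End k V) ^ (n - 1) = 1
    rw [← pow_succ', Nat.sub_add_cancel hn, h]

theorem card_sub_one_le_orbs [Finite H] [Finite V] (ρ : Representation k H V) :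
    Nat.card V - 1 ≤ orbs ρ * Nat.card H := by
  have hS : {v : V | v ≠ 0}.ncard = Nat.card V - 1 := by
    rw [show {v : V | v ≠ 0} = (Set.univ : Set V) \ {0} from by ext; simp,
      Set.ncard_diff_singleton_of_mem (Set.mem_univ 0), Set.ncard_univ]
  rw [← hS]
  refine ncard_le_mul _ _ (Set.toFinite _) _ fun a _ => ?_
  refine le_trans (Set.ncard_le_ncard (t := orb ρ a) ?_ (Set.toFinite _)) ?_
  · rintro x ⟨-, hx⟩
    rw [← hx]
    exact ⟨1, by simp⟩
  · rw [orb, ← Set.image_univ, ← Set.ncard_univ]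
    exact Set.ncard_image_le (Set.toFinite _)

end Cfsg.Agent.ClassNumber
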