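import Mathlib
import Cfsg.Agent.Lib.ClassNumber.Idem
import Cfsg.Agent.Lib.ClassNumber.PermBound

/-!
# Passing to a primitive group on one block of a finest system
-/

set_option autoImplicit false

namespace Cfsg.Agent.ClassNumber

variable {k : Type*} [Field k]

/-- the tautological representation of a group of invertible operators -/
def unitsRep {W : Type*} [AddCommGroup W] [Module k W] (L : Subgroup (Module.End k W)ˣ) :
    Representation k L W :=
  (Units.coeHom (Module.End k W)).comp L.subtype

theorem unitsRep_injective {W : Type*} [AddCommGroup W] [Module k W]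
    (L : Subgroup (Module.End k W)ˣ) : Function.Injective (unitsRep L) :=
  fun _ _ h => Subtype.ext (Units.ext h)

theorem card_conjClasses_le_of_surjective {G K : Type*} [Group G] [Group K] [Finite G]
    (f : G →* K) (hf : Function.Surjective f) :
    Nat.card (ConjClasses K) ≤ Nat.card (ConjClasses G) :=
  Nat.card_le_card_of_surjective _ (ConjClasses.map_surjective hf)

theorem card_conjClasses_of_comm {G : Type*} [Group G] [Finite G] (h : ∀ a b : G, a * b = b * a) :
    Nat.card (ConjClasses G) = Nat.card G := by
  refine (Nat.card_eq_of_bijective ConjClasses.mk ⟨fun a b hab => ?_, Quotient.mk_surjective⟩).symm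
  rw [ConjClasses.mk_eq_mk_iff_isConj, isConj_iff] at hab
  obtain ⟨c, hc⟩ := hab
  rw [h c a, mul_inv_cancel_right] at hc
  exact hc

variable {H : Type*} [Group H] {V : Type*} [AddCommGroup V] [Module k V]

/-- the finest system gives a primitive block -/
theorem exists_block [Finite H] [Finite V] [Nontrivial V] (hsol : Group.IsSolvable H)
    (ρ : Representation k H V) (hirr : Irr ρ) (hinj : Function.Injective ρ) :
    ∃ (m : ℕ) (W : Submodule k V) (L : Subgroup (Module.End k W)ˣ),
      1 ≤ m ∧ Group.IsSolvable L ∧ Nat.card V = Nat.card W ^ m ∧ Nontrivial W ∧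
      Prim (unitsRep L) ∧
      Nat.card (ConjClasses L) ≤ m * Nat.card (ConjClasses H) ∧
      orbs (unitsRep L) * m ≤ orbs ρ ∧
      (Module.finrank k W = 1 →
        ∃ t, Good m t ∧ Nat.card H ≤ Nat.card (ConjClasses H) * t ^ 2) := by
  classical
  haveI : Finite (Module.End k V) := DFunLike.finite _
  have := Fintype.ofFinite (Module.End k V)
  have h1sys : System ρ {1} :=
    { idem := by simp
      ne := by simp
      orth := fun e he f hf hne => absurd
        ((Finset.mem_singleton.1 he).trans (Finset.mem_singleton.1 hf).symm) hne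
      sum := by simp
      stable := fun h e he => by simp_all [cj, rho_inv'] }
  obtain ⟨E, hE, hmax⟩ := Finset.exists_max_image
    (Finset.univ.filter fun E : Finset (Module.End k V) => System ρ E) Finset.card
    ⟨{1}, by simp [h1sys]⟩
  have hE : System ρ E := (Finset.mem_filter.1 hE).2
  have hmax : ∀ E', System ρ E' → E'.card ≤ E.card := fun E' h =>
    hmax E' (Finset.mem_filter.2 ⟨Finset.mem_univ _, h⟩)
  obtain ⟨e, he⟩ : E.Nonempty := by
    by_contra h
    have := hE.sum
    rw [Finset.not_nonempty_iff_eq_empty.1 h, Finset.sum_empty] at this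
    exact one_ne_zero this.symm
  set W := LinearMap.range e with hWdef
  have hW : ∀ x, x ∈ W ↔ e x = x := fun x => ⟨by
      rintro ⟨y, rfl⟩; exact LinearMap.congr_fun (hE.idem e he) y, fun h => ⟨x, h⟩⟩
  have hWne : Nontrivial W := by
    rw [Submodule.nontrivial_iff_ne_bot, Ne, hWdef, LinearMap.range_eq_bot]
    exact hE.ne e he
  -- coset representatives
  have htr := fun g : E => hE.transitive hirr he g.2
  choose rep hrep using htr
  let N : Subgroup H :=
    { carrier := {h | cj ρ h e = e}
      one_mem' := cj_one ρ e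
      mul_mem' := fun {a b} ha hb => by
        show cj ρ (a * b) e = e
        rw [← cj_cj, hb, ha]
      inv_mem' := fun {a} ha => by
        show cj ρ a⁻¹ e = e
        conv_lhs => rw [← show cj ρ a e = e from ha, cj_cj, inv_mul_cancel, cj_one] }
  have hcjW : ∀ h, ∀ w ∈ W, cj ρ h e (ρ h w) = ρ h w := fun h w hw => by
    rw [cj_apply, (hW w).1 hw]
  have hNW : ∀ n ∈ N, ∀ w ∈ W, ρ n w ∈ W := by
    intro n hn w hw
    have := hcjW n w hw
    rw [show cj ρ n e = e from hn] at this
    exact (hW _).2 this
  have hmemN : ∀ n, ∀ w ∈ W, w ≠ 0 → ρ n w ∈ W → n ∈ N := by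
    intro n w hw hw0 hnw
    by_contra hn
    have h0 : e * cj ρ n e = 0 := hE.orth e he _ (hE.stable n e he) (Ne.symm hn)
    have : e (ρ n w) = 0 := by
      conv_lhs => rw [← hcjW n w hw]
      exact LinearMap.congr_fun h0 _
    rw [(hW _).1 hnw] at this
    refine hw0 ?_
    rw [← rho_inv_apply ρ n w, this, map_zero]
  let res : N →* Module.End k W :=
    { toFun := fun n => (ρ (n : H)).restrict (hNW n n.2)
      map_one' := LinearMap.ext fun w => Subtype.ext (by simp)
      map_mul' := fun a b => LinearMap.ext fun w => Subtype.ext (by simp) }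
  set L := res.toHomUnits.range with hL
  have hres : ∀ (n : N) (w : W),
      ((unitsRep L (res.toHomUnits.rangeRestrict n) w : W) : V) = ρ (n : H) w := fun _ _ => rfl
  have hsurj := res.toHomUnits.rangeRestrict_surjective
  haveI := hsol
  have hLsol : Group.IsSolvable L := solvable_of_surjective hsurj
  -- the index of `N`
  have hidx : N.index = E.card := by
    rw [← Nat.card_eq_finsetCard, Subgroup.index]
    refine Nat.card_congr (Equiv.ofBijective (fun q : H ⧸ N => (⟨cj ρ q.out e,
      hE.stable _ e he⟩ : E)) ⟨fun a b hab => ?_, fun g => ?_⟩)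
    · rw [← a.out_eq, ← b.out_eq]
      refine QuotientGroup.eq.2 ?_
      show cj ρ (a.out⁻¹ * b.out) e = e
      have hab' : cj ρ a.out e = cj ρ b.out e := congrArg Subtype.val hab
      rw [← cj_cj, ← hab', cj_cj, inv_mul_cancel, cj_one]
    · refine ⟨(rep g : H ⧸ N), Subtype.ext ?_⟩
      obtain ⟨n, hn⟩ := QuotientGroup.mk_out_eq_mul N (rep g)
      show cj ρ _ e = g
      rw [hn, ← cj_cj, show cj ρ (n : H) e = e from n.2, hrep]
  refine ⟨E.card, W, L, Finset.card_pos.2 ⟨e, he⟩, hLsol, ?_, hWne, ⟨?_, ?_⟩, ?_, ?_, ?_⟩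
  · -- the decomposition
    have hmem : ∀ (g : E) (v : V), ρ (rep g)⁻¹ ((g : Module.End k V) v) ∈ W := by
      intro g v
      refine (hW _).2 ?_
      have h1 := cj_apply ρ (rep g) e (ρ (rep g)⁻¹ ((g : Module.End k V) v))
      rw [rho_inv_apply', hrep] at h1
      rw [show (g : Module.End k V) ((g : Module.End k V) v) = (g : Module.End k V) v from
        LinearMap.congr_fun (hE.idem g g.2) v] at h1
      have h2 := congrArg (ρ (rep g)⁻¹) h1
      rw [rho_inv_apply] at h2
      exact h2.symm
    rw [← Nat.card_eq_finsetCard, ← Nat.card_fun]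
    refine Nat.card_eq_of_bijective (fun v g => (⟨_, hmem g v⟩ : W)) ⟨fun a b hab => ?_, fun f => ?_⟩
    · have h1 : ∀ g ∈ E, g a = g b := fun g hg => by
        have h2 := congrArg (fun t => ρ (rep ⟨g, hg⟩) ((t ⟨g, hg⟩ : W) : V)) hab
        simpa only [rho_inv_apply'] using h2
      calc a = (∑ g ∈ E, g) a := by rw [hE.sum]; rfl
        _ = (∑ g ∈ E, g) b := by
          rw [LinearMap.sum_apply, LinearMap.sum_apply]
          exact Finset.sum_congr rfl h1
        _ = b := by rw [hE.sum]; rfl
    · refine ⟨∑ g : E, ρ (rep g) (f g : V), funext fun g => Subtype.ext ?_⟩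
      show ρ (rep g)⁻¹ ((g : Module.End k V) (∑ g' : E, ρ (rep g') (f g' : V))) = _
      rw [map_sum, Finset.sum_eq_single g]
      · rw [← hrep g, hcjW _ _ (f g).2, rho_inv_apply]
      · intro g' _ hne
        rw [← hcjW (rep g') _ (f g').2, hrep g']
        exact LinearMap.congr_fun (hE.orth g g.2 g' g'.2
          (fun h => hne (Subtype.ext h.symm))) _
      · simp
  · -- irreducible
    intro U hU
    by_cases hU0 : U = ⊥
    · exact Or.inl hU0
    refine Or.inr (eq_top_iff.2 fun w _ => ?_)
    set S : Set V := {v | ∃ h, ∃ u ∈ U, ρ h (u : W) = v} with hS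
    rcases hirr (Submodule.span k S) (fun h v hv => by
        induction hv using Submodule.span_induction with
        | mem x hx =>
          obtain ⟨g, u, hu, rfl⟩ := hx
          exact Submodule.subset_span ⟨h * g, u, hu, by rw [map_mul]; rfl⟩
        | zero => simp
        | add x y _ _ hx hy => rw [map_add]; exact add_mem hx hy
        | smul c x _ hx => rw [map_smul]; exact Submodule.smul_mem _ c hx) with h0 | h1
    · exfalso
      obtain ⟨u, hu, hu0⟩ := Submodule.exists_mem_ne_zero_of_ne_bot hU0
      have : (u : V) ∈ Submodule.span k S :=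
        Submodule.subset_span ⟨1, u, hu, by simp⟩
      rw [h0, Submodule.mem_bot] at this
      exact hu0 (Subtype.ext this)
    · have key : ∀ v ∈ Submodule.span k S, e v ∈ U.map W.subtype := by
        intro v hv
        induction hv using Submodule.span_induction with
        | mem x hx =>
          obtain ⟨g, u, hu, rfl⟩ := hx
          by_cases hg : g ∈ N
          · rw [(hW _).1 (hNW g hg u u.2)]
            exact ⟨_, hU (res.toHomUnits.rangeRestrict ⟨g, hg⟩) u hu, rfl⟩
          · have h0 : e * cj ρ g e = 0 := hE.orth e he _ (hE.stable g e he) (Ne.symm hg)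
            rw [← hcjW g u u.2, ← Module.End.mul_apply, h0]
            exact Submodule.zero_mem _
        | zero => simp
        | add x y _ _ hx hy => rw [map_add]; exact add_mem hx hy
        | smul c x _ hx => rw [map_smul]; exact Submodule.smul_mem _ c hx
      obtain ⟨u, hu, huw⟩ := key (w : V) (h1 ▸ Submodule.mem_top)
      rw [(hW _).1 w.2] at huw
      rwa [← show u = w from Subtype.ext huw]
  · -- no refinement
    intro F hF
    by_contra hF2
    push Not at hF2
    let hat : Module.End k W → Module.End k V := fun f =>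
      W.subtype ∘ₗ f ∘ₗ LinearMap.rangeRestrict e
    have hrr : ∀ w : W, LinearMap.rangeRestrict e (w : V) = w := fun w =>
      Subtype.ext ((hW _).1 w.2)
    have hat_mul : ∀ a b, hat (a * b) = hat a * hat b := fun a b => LinearMap.ext fun v => by
      show W.subtype (a (b (e.rangeRestrict v))) = W.subtype (a (e.rangeRestrict
        ((b (e.rangeRestrict v) : W) : V)))
      rw [hrr]
    have hat_zero : hat 0 = 0 := LinearMap.ext fun v => by simp [hat]
    have hat_inj : Function.Injective hat := fun a b hab => LinearMap.ext fun w => by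
      have := LinearMap.congr_fun hab (w : V)
      simp only [hat, LinearMap.comp_apply, hrr] at this
      exact Subtype.ext this
    have hat_e : ∀ a, e * hat a = hat a ∧ hat a * e = hat a := fun a =>
      ⟨LinearMap.ext fun v => (hW _).1 (a _).2, LinearMap.ext fun v => by
        show W.subtype (a (e.rangeRestrict (e v))) = W.subtype (a (e.rangeRestrict v))
        rw [show e.rangeRestrict (e v) = e.rangeRestrict v from
          Subtype.ext (LinearMap.congr_fun (hE.idem e he) v)]⟩
    have hat_cj : ∀ (n : N) a,
        cj ρ (n : H) (hat a) = hat (cj (unitsRep L) (res.toHomUnits.rangeRestrict n) a) := by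
      intro n a
      refine LinearMap.ext fun v => ?_
      show ρ (n : H) ((a (e.rangeRestrict (ρ (n : H)⁻¹ v)) : W) : V) =
        ρ (n : H) ((a (unitsRep L (res.toHomUnits.rangeRestrict n)⁻¹ (e.rangeRestrict v)) : W) : V)
      congr 3
      refine Subtype.ext ?_
      show e (ρ (n : H)⁻¹ v) = _
      rw [← map_inv, hres]
      show _ = ρ (n : H)⁻¹ (e v)
      have h1 := cj_apply ρ (n : H)⁻¹ e v
      rwa [show cj ρ (n : H)⁻¹ e = e from (N.inv_mem n.2)] at h1
    let Ψ : E × F → Module.End k V := fun x => cj ρ (rep x.1) (hat x.2)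
    have hΨe : ∀ x, (x.1 : Module.End k V) * Ψ x = Ψ x ∧ Ψ x * x.1 = Ψ x := fun x => by
      simp only [Ψ, ← hrep x.1, cj_mul, hat_e]
      exact ⟨trivial, trivial⟩
    have hΨne : ∀ x, Ψ x ≠ 0 := fun x h => hF.ne x.2 x.2.2 (hat_inj (cj_injective ρ (rep x.1)
      (h.trans (cj_zero ρ _).symm) |>.trans hat_zero.symm))
    have hΨorth : ∀ x y, x ≠ y → Ψ x * Ψ y = 0 := by
      intro x y hxy
      by_cases h1 : x.1 = y.1
      · simp only [Ψ, h1, cj_mul, ← hat_mul]
        rw [hF.orth _ x.2.2 _ y.2.2 fun h => hxy (Prod.ext h1 (Subtype.ext h)), hat_zero, cj_zero]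
      · rw [← (hΨe x).2, ← (hΨe y).1, mul_assoc, ← mul_assoc (x.1 : Module.End k V),
          hE.orth _ x.1.2 _ y.1.2 fun h => h1 (Subtype.ext h), zero_mul, mul_zero]
    have hΨinj : Function.Injective Ψ := by
      intro x y hxy
      by_contra hne
      have h0 := hΨorth x y hne
      rw [← hxy] at h0
      refine hΨne x ?_
      have h2 : Ψ x * Ψ x = Ψ x := by
        simp only [Ψ, cj_mul, ← hat_mul, hF.idem _ x.2.2]
      exact h2.symm.trans h0
    have hbig : System ρ (Finset.univ.image Ψ) :=
      { idem := fun a ha => by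
          obtain ⟨x, -, rfl⟩ := Finset.mem_image.1 ha
          simp only [Ψ, cj_mul, ← hat_mul, hF.idem _ x.2.2]
        ne := fun a ha => by
          obtain ⟨x, -, rfl⟩ := Finset.mem_image.1 ha
          exact hΨne x
        orth := fun a ha b hb hne => by
          obtain ⟨x, -, rfl⟩ := Finset.mem_image.1 ha
          obtain ⟨y, -, rfl⟩ := Finset.mem_image.1 hb
          exact hΨorth x y fun h => hne (by rw [h])
        sum := by
          rw [Finset.sum_image fun x _ y _ h => hΨinj h, Fintype.sum_prod_type]
          simp only [Ψ]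
          rw [Finset.univ_eq_attach]
          calc ∑ g ∈ E.attach, ∑ f : F, cj ρ (rep g) (hat f)
              = ∑ g ∈ E.attach, (g : Module.End k V) := by
                refine Finset.sum_congr rfl fun g _ => ?_
                rw [← cj_sum]
                have : ∑ f : F, hat f = e := by
                  refine LinearMap.ext fun v => ?_
                  rw [LinearMap.sum_apply]
                  show ∑ f : F, W.subtype ((f : Module.End k W) (e.rangeRestrict v)) = e v
                  rw [← map_sum, ← LinearMap.sum_apply, Finset.sum_coe_sort F (fun f => f), hF.sum]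
                  rfl
                rw [this, hrep]
            _ = 1 := by rw [Finset.sum_attach E (fun g => g), hE.sum]
        stable := fun h a ha => by
          obtain ⟨x, -, rfl⟩ := Finset.mem_image.1 ha
          let g' : E := ⟨cj ρ (h * rep x.1) e, hE.stable _ e he⟩
          have hn : (rep g')⁻¹ * (h * rep x.1) ∈ N := by
            show cj ρ _ e = e
            rw [← cj_cj, show cj ρ (h * rep x.1) e = cj ρ (rep g') e from (hrep g').symm, cj_cj,
              inv_mul_cancel, cj_one]
          refine Finset.mem_image.2 ⟨(g', ⟨_, hF.stable (res.toHomUnits.rangeRestrict ⟨_, hn⟩)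
            _ x.2.2⟩), Finset.mem_univ _, ?_⟩
          show cj ρ (rep g') (hat _) = cj ρ h (cj ρ (rep x.1) (hat x.2))
          rw [← hat_cj ⟨_, hn⟩, cj_cj, cj_cj]
          congr 1
          exact mul_inv_cancel_left _ _ }
    have hle := hmax _ hbig
    rw [Finset.card_image_of_injective _ hΨinj, Finset.card_univ, Fintype.card_prod,
      Fintype.card_coe, Fintype.card_coe] at hle
    nlinarith [Finset.card_pos.2 ⟨e, he⟩]
  · calc Nat.card (ConjClasses L) ≤ Nat.card (ConjClasses N) :=
          card_conjClasses_le_of_surjective _ hsurj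
      _ ≤ _ := by rw [← hidx]; exact Counting.Commuting.card_conjClasses_subgroup_le N
  · -- orbits: label and size of the support
    choose lab hlab hlabne using fun O : orb (unitsRep L) '' {w : W | w ≠ 0} =>
      (show ∃ w : W, orb (unitsRep L) w = O.1 ∧ w ≠ 0 by
        obtain ⟨w, hw, hwO⟩ := O.2
        exact ⟨w, hwO, hw⟩)
    have hsub : ∀ j : Fin E.card, ∃ T, T ⊆ E ∧ T.card = (j : ℕ) + 1 := fun j =>
      Finset.exists_subset_card_eq (by omega)
    choose T hTE hTc using hsub
    let vec : Fin E.card → W → V := fun j w =>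
      ∑ g : E, if (g : Module.End k V) ∈ T j then ρ (rep g) (w : V) else 0
    have hvec : ∀ j w (g : E), (g : Module.End k V) (vec j w) =
        if (g : Module.End k V) ∈ T j then ρ (rep g) (w : V) else 0 := by
      intro j w g
      simp only [vec, map_sum]
      rw [Finset.sum_eq_single g]
      · split_ifs with h
        · conv_lhs => rw [← hrep g, hcjW _ _ w.2]
        · exact map_zero _
      · intro g' _ hne
        split_ifs with h
        · rw [← hcjW (rep g') _ w.2, hrep g']
          exact LinearMap.congr_fun (hE.orth g g.2 g' g'.2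
            (fun h => hne (Subtype.ext h.symm))) _
        · exact map_zero _
      · simp
    have hwne : ∀ g (w : W), w ≠ 0 → ρ g (w : V) ≠ 0 := fun g w hw h => hw (Subtype.ext (by
      rw [← rho_inv_apply ρ g (w : V), h, map_zero]; rfl))
    let supp : V → Finset (Module.End k V) := fun v => E.filter fun g => g v ≠ 0
    have hsupp : ∀ j w, w ≠ 0 → supp (vec j w) = T j := by
      intro j w hw
      ext g
      simp only [supp, Finset.mem_filter]
      constructor
      · rintro ⟨hg, hne⟩
        have h1 := hvec j w ⟨g, hg⟩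
        dsimp only at h1
        rw [h1] at hne
        by_contra h
        exact hne (if_neg h)
      · intro hg
        refine ⟨hTE j hg, ?_⟩
        have h1 := hvec j w ⟨g, hTE j hg⟩
        dsimp only at h1
        rw [h1, if_pos hg]
        exact hwne _ w hw
    have hne : ∀ j w, w ≠ 0 → vec j w ≠ 0 := fun j w hw h => by
      have h2 := hsupp j w hw
      have : supp (vec j w) = ∅ := Finset.filter_eq_empty_iff.2 fun g _ => by simp [h]
      have := hTc j
      rw [← h2, ‹supp _ = ∅›, Finset.card_empty] at this
      omega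
    rw [orbs, orbs, ← Nat.card_coe_set_eq, ← Nat.card_coe_set_eq, ← Nat.card_fin E.card,
      ← Nat.card_prod]
    refine Nat.card_le_card_of_injective
      (fun x => (⟨orb ρ (vec x.2 (lab x.1)), _, hne _ _ (hlabne _), rfl⟩ :
        orb ρ '' {v | v ≠ 0})) fun x y hxy => ?_
    have h0 : vec y.2 (lab y.1) ∈ orb ρ (vec x.2 (lab x.1)) := by
      have hxy' : orb ρ (vec x.2 (lab x.1)) = orb ρ (vec y.2 (lab y.1)) :=
        congrArg Subtype.val hxy
      rw [hxy']
      exact ⟨1, by simp⟩
    obtain ⟨h, hh⟩ := h0
    have himg : T y.2 = (T x.2).image (cj ρ h) := by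
      rw [← hsupp y.2 _ (hlabne y.1), ← hsupp x.2 _ (hlabne x.1)]
      ext g
      simp only [supp, Finset.mem_filter, Finset.mem_image]
      constructor
      · rintro ⟨hg, hg0⟩
        refine ⟨cj ρ h⁻¹ g, ⟨hE.stable _ g hg, fun h1 => hg0 ?_⟩, by
          rw [cj_cj, mul_inv_cancel, cj_one]⟩
        rw [← hh]
        have h2 := cj_apply ρ h (cj ρ h⁻¹ g) (vec x.2 (lab x.1))
        rw [cj_cj, mul_inv_cancel, cj_one, h1, map_zero] at h2
        exact h2
      · rintro ⟨f, ⟨hf, hf0⟩, rfl⟩
        refine ⟨hE.stable h f hf, fun h1 => hf0 ?_⟩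
        rw [← hh, cj_apply] at h1
        rw [← rho_inv_apply ρ h (f (vec x.2 (lab x.1))), h1, map_zero]
    have hj : x.2 = y.2 := Fin.ext (by
      have := hTc y.2
      rw [himg, Finset.card_image_of_injective _ (cj_injective ρ h), hTc] at this
      omega)
    obtain ⟨f, hf⟩ : (T x.2).Nonempty := Finset.card_pos.1 (by rw [hTc]; omega)
    have hf' : cj ρ h f ∈ T y.2 := himg ▸ Finset.mem_image_of_mem _ hf
    let g0 : E := ⟨f, hTE _ hf⟩
    let g1 : E := ⟨cj ρ h f, hTE _ hf'⟩
    have e1 : ρ (rep g1) (lab y.1 : V) = ρ h (ρ (rep g0) (lab x.1 : V)) := by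
      rw [← (hvec y.2 (lab y.1) g1).trans (if_pos hf'), ← hh,
        show ((g1 : E) : Module.End k V) = cj ρ h f from rfl, cj_apply,
        ← show ((g0 : E) : Module.End k V) = f from rfl, (hvec x.2 (lab x.1) g0).trans (if_pos hf)]
    have e2 : ρ ((rep g1)⁻¹ * h * rep g0) (lab x.1 : V) = lab y.1 := by
      rw [map_mul, map_mul, Module.End.mul_apply, Module.End.mul_apply, ← e1, rho_inv_apply]
    have hn : (rep g1)⁻¹ * h * rep g0 ∈ N :=
      hmemN _ _ (lab x.1).2 (fun h => hlabne x.1 (Subtype.ext h)) (by rw [e2]; exact (lab y.1).2)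
    have e3 : unitsRep L (res.toHomUnits.rangeRestrict ⟨_, hn⟩) (lab x.1) = lab y.1 :=
      Subtype.ext ((hres _ _).trans e2)
    refine Prod.ext (Subtype.ext ?_) hj
    rw [← hlab x.1, ← hlab y.1, ← e3]
    refine Set.ext fun z => ⟨?_, ?_⟩
    · rintro ⟨g, rfl⟩
      refine ⟨g * (res.toHomUnits.rangeRestrict ⟨_, hn⟩)⁻¹, ?_⟩
      simp only [map_mul, Module.End.mul_apply, rho_inv_apply]
    · rintro ⟨g, rfl⟩
      exact ⟨g * res.toHomUnits.rangeRestrict ⟨_, hn⟩, by simp⟩
  · -- lines
    intro hfr
    let π : H →* Equiv.Perm E :=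
      { toFun := fun h =>
          { toFun := fun g => ⟨cj ρ h g, hE.stable h g g.2⟩
            invFun := fun g => ⟨cj ρ h⁻¹ g, hE.stable _ g g.2⟩
            left_inv := fun g => Subtype.ext (by simp [cj_cj, cj_one])
            right_inv := fun g => Subtype.ext (by simp [cj_cj, cj_one]) }
        map_one' := Equiv.ext fun g => Subtype.ext (cj_one ρ _)
        map_mul' := fun a b => Equiv.ext fun g => Subtype.ext (cj_cj ρ a b _).symm }
    have hcomm : ∀ a b : π.ker, a * b = b * a := by
      intro a b
      refine Subtype.ext (hinj (LinearMap.ext fun v => ?_))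
      obtain ⟨a, ha⟩ := a
      obtain ⟨b, hb⟩ := b
      show ρ (a * b) v = ρ (b * a) v
      have hline : ∀ (g : E) (x : V),
          ρ (a * b) ((g : Module.End k V) x) = ρ (b * a) ((g : Module.End k V) x) := by
        intro g x
        have hfix : ∀ c ∈ π.ker, cj ρ ((rep g)⁻¹ * c * rep g) e = e := by
          intro c hc
          rw [← cj_cj, hrep]
          rw [← cj_cj, show cj ρ c (g : Module.End k V) = g from congrArg Subtype.val
            (Equiv.congr_fun (MonoidHom.mem_ker.1 hc) g)]
          conv_lhs => rw [← hrep g, cj_cj, inv_mul_cancel, cj_one]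
        set w := e (ρ (rep g)⁻¹ x) with hw
        have hgx : (g : Module.End k V) x = ρ (rep g) w := by
          rw [hw, ← cj_apply, hrep, rho_inv_apply']
        by_cases hw0 : w = 0
        · simp [hgx, hw0]
        have hwW : w ∈ W := ⟨_, rfl⟩
        have hsc : ∀ c ∈ π.ker, ∃ t : k, ρ c (ρ (rep g) w) = t • ρ (rep g) w := by
          intro c hc
          obtain ⟨t, ht⟩ := (finrank_eq_one_iff_of_nonzero' (⟨w, hwW⟩ : W)
            (fun h => hw0 (congrArg Subtype.val h))).1 hfr
              ⟨_, hNW _ (hfix c hc) w hwW⟩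
          refine ⟨t, ?_⟩
          have h1 := congrArg (fun z : W => ρ (rep g) (z : V)) ht
          simp only [Submodule.coe_smul, map_smul, map_mul, Module.End.mul_apply,
            rho_inv_apply'] at h1
          exact h1.symm
        obtain ⟨t, ht⟩ := hsc a ha
        obtain ⟨s, hs⟩ := hsc b hb
        simp only [hgx, map_mul, Module.End.mul_apply, ht, hs, map_smul, smul_smul, mul_comm t s]
      calc ρ (a * b) v = ρ (a * b) ((∑ g ∈ E, g) v) := by rw [hE.sum]; rfl
        _ = ρ (b * a) ((∑ g ∈ E, g) v) := by
          simp only [LinearMap.sum_apply, map_sum]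
          exact Finset.sum_congr rfl fun g hg => hline ⟨g, hg⟩ v
        _ = _ := by rw [hE.sum]; rfl
    refine ⟨Nat.card π.range, ?_, ?_⟩
    · have := solvable_perm_bound (solvable_of_surjective π.rangeRestrict_surjective)
        π.range.subtype π.range.subtype_injective
        (by rw [Nat.card_eq_finsetCard]; exact Finset.card_pos.2 ⟨e, he⟩)
      rwa [Nat.card_eq_finsetCard] at this
    · have h1 := Counting.Commuting.card_conjClasses_subgroup_le π.ker
      rw [card_conjClasses_of_comm hcomm, Subgroup.index_ker] at h1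
      calc Nat.card H = Nat.card π.ker * Nat.card π.range := by
            rw [← Subgroup.index_ker, Subgroup.card_mul_index]
        _ ≤ Nat.card π.range * Nat.card (ConjClasses H) * Nat.card π.range :=
            Nat.mul_le_mul_right _ h1
        _ = _ := by ring

end Cfsg.Agent.ClassNumber
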