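import Mathlib
import Cfsg.Agent.Lib.ClassNumber.Count
import Cfsg.Agent.Lib.ClassNumber.SympBound
import Cfsg.Agent.Lib.Perm.TransLinear.Layer

/-!
# A class two layer with central scalars: size, pairing and the classes over the scalars
-/

set_option autoImplicit false

namespace Cfsg.Agent.ClassNumber

open scoped commutatorElement

universe u v w

variable {K : Type u} [Field K] {W : Type v} [AddCommGroup W] [Module K W]
variable {C : Type w} [Group C]

/-- the hypotheses on the layer -/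
structure LayerData (τ : C →* Module.End K W) where
  A : Subgroup C
  normA : A.Normal
  F : Subgroup C
  normF : F.Normal
  inj : Function.Injective τ
  cen : ∀ a ∈ A, ∀ c : C, a * c = c * a
  ψ : A →* K
  scalar : ∀ a : A, ∀ w : W, τ a w = ψ a • w
  le : A ≤ F
  comm : ∀ x ∈ F, ∀ y ∈ F, ⁅x, y⁆ ∈ A
  sqf : ∀ r : ℕ, r.Prime → ∀ x ∈ F, x ^ (r * r) ∈ A → x ^ r ∈ A
  self : ∀ c : C, (∀ x ∈ F, c * x = x * c) → c ∈ A

variable {τ : C →* Module.End K W} (S : LayerData τ)

theorem LayerData.psi_injective : Function.Injective S.ψ := fun a b h =>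
  Subtype.ext (S.inj (LinearMap.ext fun w => by rw [S.scalar, S.scalar, h]))

theorem LayerData.isCyclic [Finite C] : IsCyclic S.A :=
  isCyclic_of_injective_ringHom S.ψ S.psi_injective

theorem LayerData.comm_mul_left {x x' y : C} (hx : x ∈ S.F) (hx' : x' ∈ S.F) (hy : y ∈ S.F) :
    ⁅x * x', y⁆ = ⁅x, y⁆ * ⁅x', y⁆ := by
  have e : ⁅x * x', y⁆ = x * ⁅x', y⁆ * x⁻¹ * ⁅x, y⁆ := by
    simp only [commutatorElement_def]; group
  rw [e, ← S.cen _ (S.comm x' hx' y hy) x, mul_inv_cancel_right,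
    S.cen _ (S.comm x' hx' y hy) _]

attribute [instance] LayerData.normA LayerData.normF

section

/-- the layer modulo the scalars -/
abbrev LayerData.Q : Subgroup (C ⧸ S.A) :=
  S.F.map (QuotientGroup.mk' S.A)

instance instCommQ : CommGroup S.Q :=
  { (inferInstance : Group S.Q) with
    mul_comm := fun a b => Subtype.ext (by
      obtain ⟨x, hx, hxa⟩ := a.2
      obtain ⟨y, hy, hyb⟩ := b.2
      rw [Subgroup.coe_mul, Subgroup.coe_mul, ← hxa, ← hyb, ← map_mul, ← map_mul]
      refine QuotientGroup.eq.2 ?_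
      have := S.comm y⁻¹ (S.F.inv_mem hy) x⁻¹ (S.F.inv_mem hx)
      rw [commutatorElement_def, inv_inv, inv_inv] at this
      simpa [mul_assoc] using this) }

instance instCommA : CommGroup S.A :=
  { (inferInstance : Group S.A) with
    mul_comm := fun a b => Subtype.ext (S.cen a a.2 b) }

theorem LayerData.out_mem (y : S.Q) : (y : C ⧸ S.A).out ∈ S.F := by
  obtain ⟨m, hm, hmy⟩ := y.2
  obtain ⟨b, hb⟩ := QuotientGroup.mk_out_eq_mul S.A m
  rw [← hmy, QuotientGroup.mk'_apply, hb]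
  exact S.F.mul_mem hm (S.le b.2)

theorem LayerData.comm_congr {m m' n n' : C} (hm : m ∈ S.F) (hn : n ∈ S.F)
    (h : (m : C ⧸ S.A) = m') (h' : (n : C ⧸ S.A) = n') : ⁅m', n'⁆ = ⁅m, n⁆ := by
  have ha := QuotientGroup.eq.1 h
  have hb := QuotientGroup.eq.1 h'
  rw [show m' = m * (m⁻¹ * m') by group, show n' = n * (n⁻¹ * n') by group]
  set a := m⁻¹ * m'
  set b := n⁻¹ * n'
  have e1 : a * (n * b) * a⁻¹ = n * b := by rw [S.cen a ha, mul_inv_cancel_right]
  have e2 : b * (m⁻¹ * n⁻¹) = (m⁻¹ * n⁻¹) * b := S.cen b hb _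
  calc ⁅m * a, n * b⁆ = m * (a * (n * b) * a⁻¹) * m⁻¹ * (b⁻¹ * n⁻¹) := by
        simp only [commutatorElement_def]; group
    _ = m * n * (b * (m⁻¹)) * (b⁻¹ * n⁻¹) := by rw [e1]; group
    _ = m * n * (m⁻¹ * b) * (b⁻¹ * n⁻¹) := by rw [S.cen b hb m⁻¹]
    _ = _ := by simp only [commutatorElement_def]; group

theorem LayerData.comm_mul_right {x y y' : C} (hx : x ∈ S.F) (hy : y ∈ S.F) (hy' : y' ∈ S.F) :
    ⁅x, y * y'⁆ = ⁅x, y⁆ * ⁅x, y'⁆ := by
  rw [← commutatorElement_inv, S.comm_mul_left hy hy' hx, mul_inv_rev, commutatorElement_inv,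
    commutatorElement_inv, S.cen _ (S.comm x hx y hy)]

/-- the commutator of two classes -/
noncomputable def LayerData.pair (y y' : S.Q) : S.A :=
  ⟨⁅(y : C ⧸ S.A).out, (y' : C ⧸ S.A).out⁆, S.comm _ (S.out_mem y) _ (S.out_mem y')⟩

theorem LayerData.pair_eq {y y' : S.Q} {m n : C} (hm : m ∈ S.F) (hn : n ∈ S.F)
    (h : (m : C ⧸ S.A) = y) (h' : (n : C ⧸ S.A) = y') : (S.pair y y' : C) = ⁅m, n⁆ :=
  S.comm_congr hm hn (h.trans (QuotientGroup.out_eq' (y : C ⧸ S.A)).symm)
    (h'.trans (QuotientGroup.out_eq' (y' : C ⧸ S.A)).symm)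

theorem LayerData.pair_mul_left (a b y : S.Q) : S.pair (a * b) y = S.pair a y * S.pair b y := by
  refine Subtype.ext ?_
  rw [Subgroup.coe_mul, S.pair_eq (y := a * b) (S.F.mul_mem (S.out_mem a) (S.out_mem b))
    (S.out_mem y) (by simp) (QuotientGroup.out_eq' _),
    S.comm_mul_left (S.out_mem a) (S.out_mem b) (S.out_mem y)]
  rfl

theorem LayerData.pair_mul_right (y a b : S.Q) : S.pair y (a * b) = S.pair y a * S.pair y b := by
  refine Subtype.ext ?_
  rw [Subgroup.coe_mul, S.pair_eq (y' := a * b) (S.out_mem y)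
    (S.F.mul_mem (S.out_mem a) (S.out_mem b)) (QuotientGroup.out_eq' _) (by simp),
    S.comm_mul_right (S.out_mem y) (S.out_mem a) (S.out_mem b)]
  rfl

/-- the commutator pairing -/
noncomputable def LayerData.pairing : Pairing S.Q S.A where
  form := MonoidHom.mk' (fun y => MonoidHom.mk' (S.pair y) (S.pair_mul_right y))
    fun a b => MonoidHom.ext fun y => S.pair_mul_left a b y
  alt := fun x => Subtype.ext (commutatorElement_self _)
  nondeg := fun x hx => by
    refine Subtype.ext ?_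
    rw [OneMemClass.coe_one, ← QuotientGroup.out_eq' (x : C ⧸ S.A), QuotientGroup.eq_one_iff]
    refine S.self _ fun f hf => ?_
    rw [← commutatorElement_eq_one_iff_mul_comm]
    rw [← S.pair_eq (y' := ⟨(f : C ⧸ S.A), ⟨f, hf, rfl⟩⟩) (S.out_mem x) hf
      (QuotientGroup.out_eq' _) rfl]
    exact congrArg Subtype.val (hx ⟨(f : C ⧸ S.A), ⟨f, hf, rfl⟩⟩)

theorem LayerData.sqFreeExp : SqFreeExp S.Q := by
  intro r hr x hx
  obtain ⟨m, hm, hmx⟩ := x.2
  have h : ((m : C ⧸ S.A)) ^ (r * r) = 1 := by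
    rw [← QuotientGroup.mk'_apply, hmx]
    exact congrArg Subtype.val hx
  rw [← QuotientGroup.mk_pow, QuotientGroup.eq_one_iff] at h
  refine Subtype.ext ?_
  rw [SubmonoidClass.coe_pow, ← hmx, ← map_pow, QuotientGroup.mk'_apply, OneMemClass.coe_one,
    QuotientGroup.eq_one_iff]
  exact S.sqf r hr m hm h

/-- the action on the layer -/
noncomputable def LayerData.act : C →* MulAut S.Q :=
  haveI : S.Q.Normal := S.normF.map _ (QuotientGroup.mk'_surjective S.A)
  (MulAut.conjNormal (H := S.Q)).comp (QuotientGroup.mk' S.A)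

theorem LayerData.act_val (c : C) (y : S.Q) :
    ((S.act c y : S.Q) : C ⧸ S.A) = (c : C ⧸ S.A) * y * (c : C ⧸ S.A)⁻¹ := rfl

theorem LayerData.preserves : S.pairing.Preserves S.act.range := by
  rintro _ ⟨c, rfl⟩ y y'
  refine Subtype.ext ?_
  show (S.pair (S.act c y) (S.act c y') : C) = (S.pair y y' : C)
  rw [S.pair_eq (m := c * (y : C ⧸ S.A).out * c⁻¹) (n := c * (y' : C ⧸ S.A).out * c⁻¹)
    (S.normF.conj_mem _ (S.out_mem y) c) (S.normF.conj_mem _ (S.out_mem y') c)
    (by rw [S.act_val]; simp) (by rw [S.act_val]; simp)]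
  show _ = ⁅(y : C ⧸ S.A).out, (y' : C ⧸ S.A).out⁆
  rw [← conjugate_commutatorElement, ← S.cen _ (S.comm _ (S.out_mem y) _ (S.out_mem y')) c,
    mul_inv_cancel_right]

variable [Finite C]

theorem LayerData.ker_act : S.act.ker = S.F := by
  classical
  have hle : S.F ≤ S.act.ker := fun f hf => by
    refine MonoidHom.mem_ker.2 (MulEquiv.ext fun y => Subtype.ext ?_)
    rw [S.act_val, MulAut.one_apply]
    have := mul_comm (⟨(f : C ⧸ S.A), ⟨f, hf, rfl⟩⟩ : S.Q) y
    rw [show (f : C ⧸ S.A) * (y : C ⧸ S.A) = (y : C ⧸ S.A) * (f : C ⧸ S.A) from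
      congrArg Subtype.val this, mul_inv_cancel_right]
  have hcom : ∀ c : S.act.ker, ∀ y : S.Q,
      ⁅(c : C), (y : C ⧸ S.A).out⁆ ∈ S.A := fun c y => by
    rw [← QuotientGroup.eq_one_iff, commutatorElement_def]
    have := congrArg Subtype.val (DFunLike.congr_fun (MonoidHom.mem_ker.1 c.2) y)
    rw [S.act_val, MulAut.one_apply] at this
    simp only [QuotientGroup.mk_mul, QuotientGroup.mk_inv, QuotientGroup.out_eq']
    rw [this, mul_inv_cancel]
  have hconj : ∀ (c : C) (m n : C), ⁅c, m⁆ ∈ S.A → ⁅c, n⁆ ∈ S.A →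
      ⁅c, m * n⁆ = ⁅c, m⁆ * ⁅c, n⁆ := fun c m n _ h2 => by
    have e : ⁅c, m * n⁆ = ⁅c, m⁆ * (m * ⁅c, n⁆ * m⁻¹) := by
      simp only [commutatorElement_def]; group
    rw [e, ← S.cen _ h2 m, mul_inv_cancel_right]
  have hin : ∀ (c : C) (m m' : C), (m : C ⧸ S.A) = m' → ⁅c, m⁆ = ⁅c, m'⁆ := fun c m m' h => by
    have ha := QuotientGroup.eq.1 h
    have : ⁅c, m⁻¹ * m'⁆ = 1 :=
      commutatorElement_eq_one_iff_mul_comm.2 (S.cen _ ha c).symm
    have e : ⁅c, m * (m⁻¹ * m')⁆ = ⁅c, m⁆ * (m * ⁅c, m⁻¹ * m'⁆ * m⁻¹) := by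
      simp only [commutatorElement_def]; group
    rw [this, mul_one, mul_inv_cancel, mul_one, mul_inv_cancel_left] at e
    exact e.symm
  let χ : S.act.ker → (S.Q →* K) := fun c =>
    { toFun := fun y => S.ψ ⟨⁅(c : C), (y : C ⧸ S.A).out⁆, hcom c y⟩
      map_one' := by
        rw [← map_one S.ψ]
        congr 1
        refine Subtype.ext ?_
        show ⁅(c : C), ((1 : S.Q) : C ⧸ S.A).out⁆ = 1
        rw [hin _ _ 1 (by simp), commutatorElement_one_right]
      map_mul' := fun a b => by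
        rw [← map_mul]
        congr 1
        refine Subtype.ext ?_
        show ⁅(c : C), ((a * b : S.Q) : C ⧸ S.A).out⁆ = _
        rw [hin _ _ ((a : C ⧸ S.A).out * (b : C ⧸ S.A).out) (by simp)]
        exact hconj _ _ _ (hcom c a) (hcom c b) }
  have hχ : ∀ c c', χ c = χ c' → (c : C)⁻¹ * c' ∈ S.A := by
    intro c c' h
    refine S.self _ fun f hf => ?_
    have e : S.ψ ⟨_, hcom c ⟨(f : C ⧸ S.A), ⟨f, hf, rfl⟩⟩⟩ =
        S.ψ ⟨_, hcom c' ⟨(f : C ⧸ S.A), ⟨f, hf, rfl⟩⟩⟩ := DFunLike.congr_fun h _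
    have e2 := congrArg Subtype.val (S.psi_injective e)
    dsimp only at e2
    rw [hin _ _ f (QuotientGroup.out_eq' _), hin _ _ f (QuotientGroup.out_eq' _),
      commutatorElement_def, commutatorElement_def] at e2
    have e3 : (c : C) * f * (c : C)⁻¹ = (c' : C) * f * (c' : C)⁻¹ := mul_right_cancel e2
    calc (c : C)⁻¹ * c' * f = (c : C)⁻¹ * ((c' : C) * f * (c' : C)⁻¹) * c' := by group
      _ = (c : C)⁻¹ * ((c : C) * f * (c : C)⁻¹) * c' := by rw [e3]
      _ = _ := by group
  -- count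
  have hinj : Function.Injective
      (fun q : S.act.ker ⧸ S.A.subgroupOf S.act.ker => χ q.out) := by
    intro a b h
    rw [← a.out_eq, ← b.out_eq]
    exact QuotientGroup.eq.2 (hχ _ _ h)
  haveI := Fintype.ofFinite S.Q
  haveI := Fintype.ofFinite (S.act.ker ⧸ S.A.subgroupOf S.act.ker)
  have hlin := ((linearIndependent_monoidHom S.Q K).comp _ hinj).fintype_card_le_finrank
  rw [Module.finrank_pi, ← Nat.card_eq_fintype_card, ← Nat.card_eq_fintype_card] at hlin
  change S.A.relIndex S.act.ker ≤ _ at hlin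
  have hQ : Nat.card S.Q = S.A.relIndex S.F := by
    rw [← Subgroup.relIndex_ker (f := QuotientGroup.mk' S.A), QuotientGroup.ker_mk']
  rw [hQ, ← Subgroup.relIndex_mul_relIndex S.A S.F S.act.ker S.le hle] at hlin
  have h0 : 0 < S.A.relIndex S.F := hQ ▸ Nat.card_pos
  have h1 : 0 < S.F.relIndex S.act.ker :=
    Nat.pos_of_ne_zero (S.F.subgroupOf S.act.ker).index_ne_zero_of_finite
  have : S.F.relIndex S.act.ker = 1 := by
    by_contra h
    nlinarith [show 2 ≤ S.F.relIndex S.act.ker by omega]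
  exact le_antisymm (Subgroup.relIndex_eq_one.1 this) hle

theorem LayerData.card_quot : Nat.card (C ⧸ S.A) = Nat.card S.Q * Nat.card S.act.range := by
  have hQ : Nat.card S.Q = S.A.relIndex S.F := by
    rw [← Subgroup.relIndex_ker (f := QuotientGroup.mk' S.A), QuotientGroup.ker_mk']
  rw [← Subgroup.index_ker, S.ker_act, hQ, Subgroup.relIndex_mul_index S.le]
  rfl

theorem LayerData.range_solvable [Group.IsSolvable C] : Group.IsSolvable S.act.range :=
  solvable_of_surjective S.act.rangeRestrict_surjective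

omit [Finite C] in
theorem LayerData.psi_ne_zero (a : S.A) : S.ψ a ≠ 0 := fun h => by
  have := congrArg S.ψ (mul_inv_cancel a)
  rw [map_mul, h, zero_mul, map_one] at this
  exact zero_ne_one this

omit [Finite C] in
theorem tau_ne_zero [Nontrivial W] (τ : C →* Module.End K W) (c : C) : τ c ≠ 0 := fun h => by
  have := congrArg τ (mul_inv_cancel c)
  rw [map_mul, h, zero_mul, map_one] at this
  exact zero_ne_one this

theorem LayerData.card_Q_le [Finite W] [Nontrivial W] :
    Nat.card S.Q ≤ Module.finrank K W * Module.finrank K W := by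
  have hsep : ∀ y y' : S.Q, y ≠ y' → ∃ t : S.Q,
      S.ψ (S.pair t y) ≠ S.ψ (S.pair t y') := by
    intro y y' hne
    by_contra h
    push Not at h
    refine hne ?_
    have hz := S.pairing.nondeg (y⁻¹ * y') fun t => by
      have e := S.psi_injective (h t)
      show S.pairing.form (y⁻¹ * y') t = 1
      rw [S.pairing.skew t, map_mul, map_inv]
      show ((S.pair t y)⁻¹ * S.pair t y')⁻¹ = 1
      rw [e, inv_mul_cancel, inv_one]
    exact inv_mul_eq_one.1 hz
  refine (Perm.TransLinear.endo_bound (fun y : S.Q => τ (y : C ⧸ S.A).out)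
    (fun t : S.Q => τ (t : C ⧸ S.A).out) (fun t => ?_) (fun y => tau_ne_zero τ _)
    (fun t y => S.ψ (S.pair t y)) (fun t y w => ?_) hsep).1
  · exact ⟨⟨τ (t : C ⧸ S.A).out, τ (t : C ⧸ S.A).out⁻¹, by rw [← map_mul, mul_inv_cancel, map_one],
      by rw [← map_mul, inv_mul_cancel, map_one]⟩, rfl⟩
  · rw [← S.scalar, ← Module.End.mul_apply, ← map_mul, ← Module.End.mul_apply,
      ← Module.End.mul_apply, ← map_mul, ← map_mul]
    congr 2
    rw [show (S.pair t y : C) = ⁅(t : C ⧸ S.A).out, (y : C ⧸ S.A).out⁆ from rfl]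
    simp only [commutatorElement_def]
    group

/-- scalars carrying a class to itself -/
def LayerData.stab (x : C) : Set S.A :=
  {a : S.A | ConjClasses.mk ((a : C) * x) = ConjClasses.mk x}

theorem LayerData.stab_pow [Finite W] [Nontrivial W] {x : C} {a : S.A} (ha : a ∈ S.stab x) :
    S.ψ a ^ Module.finrank K W = 1 := by
  have h := ConjClasses.mk_eq_mk_iff_isConj.1 ha
  rw [isConj_iff] at h
  obtain ⟨c, hc⟩ := h
  have h1 := congrArg (fun z => LinearMap.det (τ z)) hc
  simp only [map_mul] at h1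
  have hs : τ (a : C) = S.ψ a • (1 : Module.End K W) := LinearMap.ext fun w => S.scalar a w
  rw [hs, LinearMap.det_smul, map_one, mul_one] at h1
  have hc1 : LinearMap.det (τ c) * LinearMap.det (τ c⁻¹) = 1 := by
    rw [← map_mul, ← map_mul, mul_inv_cancel, map_one, map_one]
  have hx0 : LinearMap.det (τ x) ≠ 0 := by
    intro h0
    have := congrArg (fun z => LinearMap.det (τ z)) (mul_inv_cancel x)
    simp only [map_mul, h0, zero_mul, map_one] at this
    exact zero_ne_one this
  have h2 : S.ψ a ^ Module.finrank K W * LinearMap.det (τ x) = 1 * LinearMap.det (τ x) := by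
    calc S.ψ a ^ Module.finrank K W * LinearMap.det (τ x)
        = S.ψ a ^ Module.finrank K W * LinearMap.det (τ x) *
          (LinearMap.det (τ c) * LinearMap.det (τ c⁻¹)) := by rw [hc1, mul_one]
      _ = _ := by rw [one_mul]; linear_combination h1
  exact mul_right_cancel₀ hx0 h2

theorem LayerData.card_stab_le [Finite W] [Nontrivial W] (x : C) :
    (S.stab x).ncard ≤ Module.finrank K W := by
  classical
  have hD : 0 < Module.finrank K W := Module.finrank_pos
  calc (S.stab x).ncard = (S.ψ '' S.stab x).ncard :=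
        (Set.ncard_image_of_injective _ S.psi_injective).symm
    _ ≤ ((Polynomial.nthRootsFinset (Module.finrank K W) (1 : K)) : Set K).ncard := by
        refine Set.ncard_le_ncard ?_ (Finset.finite_toSet _)
        rintro _ ⟨a, ha, rfl⟩
        rw [Finset.mem_coe, Polynomial.mem_nthRootsFinset hD]
        exact S.stab_pow ha
    _ ≤ _ := by
        rw [Set.ncard_coe_finset, Polynomial.nthRootsFinset_def]
        exact (Multiset.toFinset_card_le _).trans (Polynomial.card_nthRoots _ _)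

/-- the classes over a class of the quotient -/
noncomputable def LayerData.over (c : ConjClasses (C ⧸ S.A)) : ℕ :=
  (ConjClasses.map (QuotientGroup.mk' S.A) ⁻¹' {c}).ncard

theorem LayerData.card_classes [Fintype (ConjClasses (C ⧸ S.A))] :
    Nat.card (ConjClasses C) = ∑ c, S.over c := by
  rw [← Nat.card_congr (Equiv.sigmaFiberEquiv (ConjClasses.map (QuotientGroup.mk' S.A))),
    Nat.card_sigma]
  exact Finset.sum_congr rfl fun c _ => (Nat.card_coe_set_eq _)

theorem LayerData.over_mul (x : C) (M : ℕ) (hM : (S.stab x).ncard ≤ M) :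
    Nat.card S.A ≤ S.over (ConjClasses.mk (x : C ⧸ S.A)) * M := by
  have h := ncard_le_mul (fun a : S.A => ConjClasses.mk ((a : C) * x)) Set.univ
    (Set.toFinite _) M fun a _ => ?_
  · rw [Set.ncard_univ] at h
    refine h.trans (Nat.mul_le_mul_right _ (Set.ncard_le_ncard ?_ (Set.toFinite _)))
    rintro _ ⟨a, -, rfl⟩
    show ConjClasses.mk (((a : C) * x : C) : C ⧸ S.A) = _
    rw [QuotientGroup.mk_mul, (QuotientGroup.eq_one_iff (a : C)).2 a.2, one_mul]
  · refine le_trans ?_ hM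
    refine Set.ncard_le_ncard_of_injOn (fun b => a⁻¹ * b) (fun b hb => ?_)
      (fun b _ b' _ h => mul_left_cancel h) (Set.toFinite _)
    have h1 : IsConj ((b : C) * x) ((a : C) * x) := ConjClasses.mk_eq_mk_iff_isConj.1 hb.2
    obtain ⟨g, hg⟩ := isConj_iff.1 h1
    refine ConjClasses.mk_eq_mk_iff_isConj.2 (isConj_iff.2 ⟨g, ?_⟩)
    rw [Subgroup.coe_mul, Subgroup.coe_inv]
    calc g * ((a : C)⁻¹ * b * x) * g⁻¹ = g * (a : C)⁻¹ * ((b : C) * x) * g⁻¹ := by group
      _ = (a : C)⁻¹ * (g * ((b : C) * x) * g⁻¹) := by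
        rw [← S.cen _ (S.A.inv_mem a.2) g]; group
      _ = x := by rw [hg]; group

theorem LayerData.over_one : Nat.card S.A ≤ S.over (ConjClasses.mk 1) := by
  have h := S.over_mul 1 1 ?_
  · rwa [mul_one, QuotientGroup.mk_one] at h
  · rw [← Set.ncard_singleton (1 : S.A)]
    refine Set.ncard_le_ncard (fun a ha => ?_) (Set.toFinite _)
    have := ConjClasses.mk_eq_mk_iff_isConj.1 ha
    rw [mul_one, isConj_one_left] at this
    exact Set.mem_singleton_iff.2 (Subtype.ext this)

/-- many classes over the scalars -/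
theorem LayerData.classes_bound [Finite W] [Nontrivial W] :
    Nat.card S.A * (Module.finrank K W + Nat.card (ConjClasses (C ⧸ S.A)) - 1) ≤
      Nat.card (ConjClasses C) * Module.finrank K W := by
  classical
  haveI := Fintype.ofFinite (ConjClasses (C ⧸ S.A))
  set D := Module.finrank K W
  rw [S.card_classes, Finset.sum_mul, Nat.card_eq_fintype_card (α := ConjClasses (C ⧸ S.A)),
    ← Finset.card_univ, ← Finset.add_sum_erase _ _ (Finset.mem_univ (ConjClasses.mk 1))]
  have hD : 0 < D := Module.finrank_pos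
  have h1 : ∀ c ∈ Finset.univ.erase (ConjClasses.mk (1 : C ⧸ S.A)),
      Nat.card S.A ≤ S.over c * D := by
    intro c _
    obtain ⟨q, rfl⟩ := Quotient.mk_surjective c
    obtain ⟨x, rfl⟩ := QuotientGroup.mk_surjective q
    exact S.over_mul x D (S.card_stab_le x)
  refine le_trans (le_of_eq ?_) (Nat.add_le_add (Nat.mul_le_mul_right D S.over_one)
    (Finset.card_nsmul_le_sum _ _ _ h1))
  rw [Finset.card_erase_of_mem (Finset.mem_univ _), smul_eq_mul]
  have : 1 ≤ (Finset.univ : Finset (ConjClasses (C ⧸ S.A))).card := Finset.card_pos.2 ⟨_, Finset.mem_univ (ConjClasses.mk 1)⟩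
  obtain ⟨k, hk⟩ := Nat.exists_eq_add_of_le this
  rw [hk, show D + (1 + k) - 1 = D + k by omega, Nat.add_sub_cancel_left]
  ring

theorem LayerData.stab_subsingleton [Finite W] [Nontrivial W] (h2 : (2 : K) ≠ 0)
    (hD : Module.finrank K W = 2) {x : C} (hx : x * x ∉ S.A) : (S.stab x).ncard ≤ 1 := by
  rw [← Set.ncard_singleton (1 : S.A)]
  refine Set.ncard_le_ncard (fun a ha => ?_) (Set.toFinite _)
  rw [Set.mem_singleton_iff]
  by_contra hne
  have hp := S.stab_pow ha
  rw [hD, sq_eq_one_iff] at hp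
  have hneg : S.ψ a = -1 := hp.resolve_left fun h => hne (S.psi_injective (h.trans (map_one _).symm))
  obtain ⟨c, hc⟩ := isConj_iff.1 (ConjClasses.mk_eq_mk_iff_isConj.1 ha)
  set b := Module.finBasisOfFinrankEq K W hD
  set M := LinearMap.toMatrix b b (τ x) with hM
  have hs : τ (a : C) = -1 := LinearMap.ext fun w => by rw [S.scalar, hneg]; simp
  have htr : LinearMap.trace K W (τ x) = 0 := by
    have h1 := congrArg (fun z => LinearMap.trace K W (τ z)) hc
    rw [map_mul τ, LinearMap.trace_mul_comm, ← map_mul τ, inv_mul_cancel_left, map_mul τ, hs,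
      neg_one_mul, map_neg] at h1
    have : (2 : K) * LinearMap.trace K W (τ x) = 0 := by linear_combination -h1
    exact (mul_eq_zero.1 this).resolve_left h2
  rw [LinearMap.trace_eq_matrix_trace K b, ← hM, Matrix.trace_fin_two] at htr
  have hsq : LinearMap.toMatrix b b (τ (x * x)) =
      (M 0 0 * M 0 0 + M 0 1 * M 1 0) • (1 : Matrix (Fin 2) (Fin 2) K) := by
    rw [map_mul, LinearMap.toMatrix_mul, ← hM]
    ext i j
    fin_cases i <;> fin_cases j <;> simp [Matrix.mul_apply, Fin.sum_univ_two]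
    · linear_combination M 0 1 * htr
    · linear_combination M 1 0 * htr
    · linear_combination (M 1 1 - M 0 0) * htr
  refine hx (S.self _ fun f _ => S.inj ?_)
  rw [map_mul τ (x * x) f, map_mul τ f (x * x)]
  refine (LinearMap.toMatrix b b).injective ?_
  rw [LinearMap.toMatrix_mul, LinearMap.toMatrix_mul, hsq, smul_mul_assoc, one_mul, mul_smul_comm,
    mul_one]

/-- the sharp count for the binary octahedral layer -/
theorem LayerData.four_bound [Finite W] [Nontrivial W] (h2 : (2 : K) ≠ 0)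
    (hD : Module.finrank K W = 2) (hQ : Nat.card S.Q = 4) (hY : Nat.card S.act.range = 6) :
    4 * Nat.card S.A ≤ Nat.card (ConjClasses C) := by
  classical
  -- an element outside the layer whose square is inside
  haveI : Fact (Nat.Prime 2) := ⟨Nat.prime_two⟩
  haveI : Fact (Nat.Prime 3) := ⟨Nat.prime_three⟩
  obtain ⟨σ, hσ⟩ := exists_prime_orderOf_dvd_card' (G := S.act.range) 2 (by rw [hY]; norm_num)
  obtain ⟨g, hg⟩ := σ.2
  have hσ1 : σ ≠ 1 := fun h => by rw [h, orderOf_one] at hσ; omega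
  have hg1 : S.act g ≠ 1 := fun h => hσ1 (Subtype.ext (hg.symm.trans h))
  have hgF : g ∉ S.F := fun h => hg1 (MonoidHom.mem_ker.1 (by rw [S.ker_act]; exact h))
  have hg2 : ∀ y, S.act g (S.act g y) = y := by
    intro y
    have : σ ^ 2 = 1 := hσ ▸ pow_orderOf_eq_one σ
    have h' := congrArg Subtype.val this
    rw [SubmonoidClass.coe_pow, ← hg, sq] at h'
    exact DFunLike.congr_fun h' y
  set q : C ⧸ S.A := (g : C ⧸ S.A) with hq
  have hfix : ∀ y : S.Q, S.act g y = y ↔ q * y = y * q := fun y => by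
    rw [Subtype.ext_iff, S.act_val, mul_inv_eq_iff_eq_mul]
  obtain ⟨y, hy⟩ : ∃ y, S.act g y ≠ y := by
    by_contra h
    push Not at h
    exact hg1 (MulEquiv.ext h)
  set t : S.Q := y * S.act g y with ht
  have htfix : S.act g t = t := by rw [ht, map_mul, hg2, mul_comm]
  have hQexp : ∀ z : S.Q, z * z = 1 := fun z => by
    rw [← sq]
    refine S.sqFreeExp 2 Nat.prime_two z ?_
    rw [show 2 * 2 = Nat.card S.Q from hQ.symm]
    exact pow_card_eq_one'
  have ht1 : t ≠ 1 := fun h => hy (by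
    rw [ht] at h
    exact (eq_inv_of_mul_eq_one_right h).trans (inv_eq_of_mul_eq_one_left (hQexp y)))
  have hfour : ∀ z : S.Q, z = 1 ∨ z = t ∨ z = y ∨ z = y * t := by
    intro z
    by_contra hne
    push Not at hne
    obtain ⟨h1, h2, h3, h4⟩ := hne
    have hty : t ≠ y := fun h => hy (by rw [← h]; exact htfix)
    have hy1 : y ≠ 1 := fun h => hy (by rw [h, map_one])
    have : ({z, 1, t, y, y * t} : Finset S.Q).card = 5 := by
      have a1 : y * t ≠ 1 := fun h => hty
        ((eq_inv_of_mul_eq_one_right h).trans (inv_eq_of_mul_eq_one_left (hQexp y)))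
      rw [Finset.card_insert_of_notMem (by simp [h1, h2, h3, h4]),
        Finset.card_insert_of_notMem (by simp [ht1.symm, hy1.symm, a1.symm]),
        Finset.card_insert_of_notMem (by simp [hty, hy1]),
        Finset.card_insert_of_notMem (by simp [ht1]), Finset.card_singleton]
    haveI := Fintype.ofFinite S.Q
    have h5 := Finset.card_le_univ ({z, 1, t, y, y * t} : Finset S.Q)
    rw [← Nat.card_eq_fintype_card, hQ] at h5
    omega
  have hfixed : ∀ z : S.Q, S.act g z = z → z = 1 ∨ z = t := by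
    intro z hz
    rcases hfour z with h | h | h | h
    · exact Or.inl h
    · exact Or.inr h
    · exact absurd (h ▸ hz) hy
    · subst h
      rw [map_mul, htfix] at hz
      exact absurd (mul_right_cancel hz) hy
  -- the square of the element
  have hqF : q * q ∈ S.Q := by
    refine ⟨g * g, ?_, by rw [map_mul]; rfl⟩
    rw [SetLike.mem_coe, ← S.ker_act, MonoidHom.mem_ker, map_mul]
    exact MulEquiv.ext hg2
  have hq2 := hfixed ⟨q * q, hqF⟩ ((hfix _).2 (mul_assoc _ _ _).symm)
  have hqy : (q * (y : C ⧸ S.A)) * (q * y) = q * q * t := by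
    have e1 : (S.act g y : C ⧸ S.A) = q⁻¹ * y * q := by
      have h' := congrArg Subtype.val (hg2 y)
      rw [S.act_val] at h'
      rw [← h', ← hq]
      group
    rw [ht, Subgroup.coe_mul, show ((y : C ⧸ S.A) * (S.act g y : C ⧸ S.A)) =
      (S.act g y : C ⧸ S.A) * y from congrArg Subtype.val (mul_comm y (S.act g y)), e1]
    group
  have hqQ : q ∉ S.Q := by
    rintro ⟨f, hf, hfq⟩
    have := QuotientGroup.eq.1 hfq
    exact hgF (by simpa using S.F.mul_mem hf (S.le this))
  have hqyQ : q * y ∉ S.Q := fun h => hqQ (by simpa using S.Q.mul_mem h (S.Q.inv_mem y.2))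
  obtain ⟨iv, o, hiQ, hi, hoQ, ho⟩ : ∃ iv o : C ⧸ S.A,
      iv ∉ S.Q ∧ iv * iv = 1 ∧ o ∉ S.Q ∧ o * o = t := by
    rcases hq2 with h | h <;> have hv := congrArg Subtype.val h
    · exact ⟨q, q * y, hqQ, hv, hqyQ, by rw [hqy, show q * q = 1 from hv, one_mul]⟩
    · refine ⟨q * y, q, hqyQ, ?_, hqQ, hv⟩
      rw [hqy, show q * q = (t : C ⧸ S.A) from hv, ← Subgroup.coe_mul, hQexp, OneMemClass.coe_one]
  obtain ⟨th, hth⟩ := exists_prime_orderOf_dvd_card' (G := C ⧸ S.A) 3
    (by rw [S.card_quot, hQ, hY]; norm_num)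
  have hth1 : th ≠ 1 := fun h => by rw [h, orderOf_one] at hth; omega
  have hth3 : th * th * th = 1 := by
    rw [← pow_three', ← hth]; exact pow_orderOf_eq_one th
  have htt : (t : C ⧸ S.A) * t = 1 := congrArg Subtype.val (hQexp t)
  have ht1' : (t : C ⧸ S.A) ≠ 1 := fun h => ht1 (Subtype.ext h)
  have hth2 : th * th ≠ 1 := fun h => hth1 (by rwa [h, one_mul] at hth3)
  have hthQ : th ∉ S.Q := fun h => hth2 (congrArg Subtype.val (hQexp ⟨th, h⟩))
  have ho3 : o * o * o ≠ 1 := fun h => hoQ (by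
    rw [ho] at h
    rw [eq_inv_of_mul_eq_one_right h]
    exact S.Q.inv_mem t.2)
  have hQn : S.Q.Normal := S.normF.map _ (QuotientGroup.mk'_surjective S.A)
  have inv : ∀ {a b : C ⧸ S.A}, ConjClasses.mk a = ConjClasses.mk b →
      (a = 1 ↔ b = 1) ∧ (a ∈ S.Q ↔ b ∈ S.Q) ∧ (a * a = 1 ↔ b * b = 1) ∧
        (a * a * a = 1 ↔ b * b * b = 1) := by
    intro a b h
    obtain ⟨c, rfl⟩ := isConj_iff.1 (ConjClasses.mk_eq_mk_iff_isConj.1 h)
    refine ⟨conj_eq_one_iff.symm, ⟨fun h => hQn.conj_mem a h c, fun h => ?_⟩, ?_, ?_⟩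
    · have := hQn.conj_mem _ h c⁻¹
      simpa [mul_assoc] using this
    · rw [show c * a * c⁻¹ * (c * a * c⁻¹) = c * (a * a) * c⁻¹ by group, conj_eq_one_iff]
    · rw [show c * a * c⁻¹ * (c * a * c⁻¹) * (c * a * c⁻¹) = c * (a * a * a) * c⁻¹ by group,
        conj_eq_one_iff]
  set s : Finset (ConjClasses (C ⧸ S.A)) := {ConjClasses.mk 1, ConjClasses.mk (t : C ⧸ S.A),
    ConjClasses.mk iv, ConjClasses.mk o, ConjClasses.mk th} with hs
  have hio : o * o ≠ 1 := ho.symm ▸ ht1'
  have n1 : ConjClasses.mk (1 : C ⧸ S.A) ≠ ConjClasses.mk (t : C ⧸ S.A) := fun h =>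
    ht1' ((inv h).1.1 rfl)
  have n2 : ConjClasses.mk (1 : C ⧸ S.A) ≠ ConjClasses.mk iv := fun h =>
    hiQ ((inv h).2.1.1 S.Q.one_mem)
  have n3 : ConjClasses.mk (1 : C ⧸ S.A) ≠ ConjClasses.mk o := fun h =>
    hoQ ((inv h).2.1.1 S.Q.one_mem)
  have n4 : ConjClasses.mk (1 : C ⧸ S.A) ≠ ConjClasses.mk th := fun h => hth1 ((inv h).1.1 rfl)
  have n5 : ConjClasses.mk (t : C ⧸ S.A) ≠ ConjClasses.mk iv := fun h => hiQ ((inv h).2.1.1 t.2)
  have n6 : ConjClasses.mk (t : C ⧸ S.A) ≠ ConjClasses.mk o := fun h => hoQ ((inv h).2.1.1 t.2)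
  have n7 : ConjClasses.mk (t : C ⧸ S.A) ≠ ConjClasses.mk th := fun h => hth2 ((inv h).2.2.1.1 htt)
  have n8 : ConjClasses.mk iv ≠ ConjClasses.mk o := fun h => hio ((inv h).2.2.1.1 hi)
  have n9 : ConjClasses.mk iv ≠ ConjClasses.mk th := fun h => hth2 ((inv h).2.2.1.1 hi)
  have n10 : ConjClasses.mk o ≠ ConjClasses.mk th := fun h => ho3 ((inv h).2.2.2.2 hth3)
  haveI := Fintype.ofFinite (ConjClasses (C ⧸ S.A))
  have hsum : ∑ c ∈ s, S.over c ≤ Nat.card (ConjClasses C) := by
    rw [S.card_classes]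
    exact Finset.sum_le_sum_of_subset (Finset.subset_univ _)
  rw [hs, Finset.sum_insert (by simp [n1, n2, n3, n4]), Finset.sum_insert (by simp [n5, n6, n7]),
    Finset.sum_insert (by simp [n8, n9]), Finset.sum_pair n10] at hsum
  have hfull : ∀ z : C ⧸ S.A, z * z ≠ 1 → Nat.card S.A ≤ S.over (ConjClasses.mk z) := by
    intro z hz
    obtain ⟨x, rfl⟩ := QuotientGroup.mk_surjective z
    have := S.over_mul x 1 (S.stab_subsingleton h2 hD fun h => hz (by
      rw [← QuotientGroup.mk_mul, QuotientGroup.eq_one_iff]; exact h))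
    rwa [mul_one] at this
  have hhalf : ∀ z : C ⧸ S.A, Nat.card S.A ≤ S.over (ConjClasses.mk z) * 2 := by
    intro z
    obtain ⟨x, rfl⟩ := QuotientGroup.mk_surjective z
    exact S.over_mul x 2 (hD ▸ S.card_stab_le x)
  have := S.over_one
  have := hfull o hio
  have := hfull th hth2
  have := hhalf t
  have := hhalf iv
  omega

end

end Cfsg.Agent.ClassNumber
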