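import Mathlib
import Cfsg.Agent.Lib.ClassNumber.SympBound
import Cfsg.Agent.Lib.ClassNumber.PermBound
import Cfsg.Agent.S0247

/-!
# Solvable groups preserving a pairing on a group of order sixteen
-/

set_option autoImplicit false

namespace Cfsg.Agent.ClassNumber

open Matrix

universe u v

variable {Q : Type u} {Z : Type v} [CommGroup Q] [CommGroup Z]

/-- the exponents of the standard form -/
def stdExp (x y : Fin 2 ⊕ Fin 2 → ZMod 2) : ℕ :=
  (x (.inl 0)).val * (y (.inr 0)).val + (x (.inr 0)).val * (y (.inl 0)).val +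
    (x (.inl 1)).val * (y (.inr 1)).val + (x (.inr 1)).val * (y (.inl 1)).val

theorem pow_val_add {b : Q} (hb : b ^ 2 = 1) (i j : ZMod 2) :
    b ^ (i + j).val = b ^ i.val * b ^ j.val := by
  rw [← pow_add, pow_eq_pow_mod _ hb, pow_eq_pow_mod (i.val + j.val) hb]
  congr 1
  revert i j
  decide

set_option maxHeartbeats 1600000 in
theorem solvable_sixteen [Finite Q] [Finite Z] [IsCyclic Z] (β : Pairing Q Z)
    (hsf : SqFreeExp Q) (Y : Subgroup (MulAut Q)) (hY : β.Preserves Y)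
    (hsol : Group.IsSolvable Y) (hQ : Nat.card Q = 16) : Nat.card Y ≤ 72 := by
  classical
  obtain ⟨u, v, Q', β', Y', hu, hv, huv, hcard, hres, hperp, hsplit, hY', -, -⟩ :=
    step β hsf Y hY Nat.prime_two (hQ ▸ by norm_num)
  have hQ' : Nat.card Q' = 4 := by omega
  obtain ⟨s, t, Q'', β'', Y'', hs, ht, hst, hcard', hres', hperp', hsplit', -, -, -⟩ :=
    step β' (hsf.subgroup Q') Y' hY' Nat.prime_two (hQ' ▸ by norm_num)
  have hQ'' : Nat.card Q'' = 1 := by omega
  set a : Q := (s : Q) with ha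
  set b : Q := (t : Q) with hb
  have ha2 : a ^ 2 = 1 := congrArg Subtype.val hs
  have hb2 : b ^ 2 = 1 := congrArg Subtype.val ht
  set c := β.form u v with hc
  have hc2 : c ^ 2 = 1 := by
    rw [hc, ← MonoidHom.pow_apply, ← map_pow, hu, map_one, MonoidHom.one_apply]
  have hab : β.form a b = c := by
    have h1 : β.form a b ≠ 1 := by rw [ha, hb, ← hres]; exact hst
    have h2 : β.form a b ^ 2 = 1 := by
      rw [← MonoidHom.pow_apply, ← map_pow, ha2, map_one, MonoidHom.one_apply]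
    obtain ⟨i, hi⟩ := Subgroup.mem_zpowers_iff.1 (mem_zpowers_of_prime Nat.prime_two hc2 huv h2)
    have h3 := zpow_mod_orderOf c i
    rw [orderOf_eq_prime hc2 huv, hi] at h3
    rcases Int.emod_two_eq i with e | e <;> rw [show ((2 : ℕ) : ℤ) = 2 from rfl, e] at h3
    · rw [_root_.zpow_zero] at h3
      exact absurd h3.symm h1
    · rw [_root_.zpow_one] at h3
      exact h3.symm
  have hinv : c⁻¹ = c := inv_eq_of_mul_eq_one_left (by rw [← sq, hc2])
  have hua : β.form u a = 1 := (hperp _ s.2).1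
  have hub : β.form u b = 1 := (hperp _ t.2).1
  have hva : β.form v a = 1 := (hperp _ s.2).2
  have hvb : β.form v b = 1 := (hperp _ t.2).2
  have hau : β.form a u = 1 := by rw [β.skew u a, hua, inv_one]
  have hbu : β.form b u = 1 := by rw [β.skew u b, hub, inv_one]
  have hav : β.form a v = 1 := by rw [β.skew v a, hva, inv_one]
  have hbv : β.form b v = 1 := by rw [β.skew v b, hvb, inv_one]
  have hvu : β.form v u = c := by rw [β.skew u v, ← hc, hinv]
  have hba : β.form b a = c := by rw [β.skew a b, hab, hinv]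
  -- coordinates
  let Φ : Multiplicative (Fin 2 ⊕ Fin 2 → ZMod 2) →* Q :=
    MonoidHom.mk' (fun x => u ^ (x.toAdd (.inl 0)).val * v ^ (x.toAdd (.inr 0)).val *
      a ^ (x.toAdd (.inl 1)).val * b ^ (x.toAdd (.inr 1)).val) fun x y => by
      simp only [toAdd_mul, Pi.add_apply, pow_val_add hu, pow_val_add hv, pow_val_add ha2,
        pow_val_add hb2]
      ac_rfl
  have hΦsurj : Function.Surjective Φ := by
    intro x
    obtain ⟨i, j, hx⟩ := hsplit x
    obtain ⟨k, l, hk⟩ := hsplit' ⟨_, hx⟩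
    have htriv : (t ^ k * s ^ l)⁻¹ * (⟨_, hx⟩ : Q') = 1 := by
      haveI := (Nat.card_eq_one_iff_unique.1 hQ'').1
      exact congrArg Subtype.val (Subsingleton.elim (⟨_, hk⟩ : Q'') 1)
    have hx' : (v ^ i * u ^ j)⁻¹ * x = b ^ k * a ^ l := by
      have := congrArg Subtype.val (inv_mul_eq_one.1 htriv)
      simpa [ha, hb] using this.symm
    refine MonoidHom.mem_range.1 (show x ∈ Φ.range from ?_)
    rw [inv_mul_eq_iff_eq_mul] at hx'
    rw [hx']
    have m1 : u ∈ Φ.range := ⟨Multiplicative.ofAdd (Pi.single (.inl 0) 1), by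
      simp [Φ, MonoidHom.mk'_apply, ZMod.val_one]⟩
    have m2 : v ∈ Φ.range := ⟨Multiplicative.ofAdd (Pi.single (.inr 0) 1), by
      simp [Φ, MonoidHom.mk'_apply, ZMod.val_one]⟩
    have m3 : a ∈ Φ.range := ⟨Multiplicative.ofAdd (Pi.single (.inl 1) 1), by
      simp [Φ, MonoidHom.mk'_apply, ZMod.val_one]⟩
    have m4 : b ∈ Φ.range := ⟨Multiplicative.ofAdd (Pi.single (.inr 1) 1), by
      simp [Φ, MonoidHom.mk'_apply, ZMod.val_one]⟩
    exact mul_mem (mul_mem (zpow_mem m2 i) (zpow_mem m1 j))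
      (mul_mem (zpow_mem m4 k) (zpow_mem m3 l))
  have hΦ : Function.Bijective Φ := by
    rw [Nat.bijective_iff_surjective_and_card]
    exact ⟨hΦsurj, by rw [hQ, Nat.card_congr Multiplicative.toAdd]; simp⟩
  let E : Multiplicative (Fin 2 ⊕ Fin 2 → ZMod 2) ≃* Q := MulEquiv.ofBijective Φ hΦ
  have hform : ∀ x y, β.form (E x) (E y) = c ^ stdExp x.toAdd y.toAdd := by
    intro x y
    show β.form (u ^ _ * v ^ _ * a ^ _ * b ^ _) (u ^ _ * v ^ _ * a ^ _ * b ^ _) = _
    simp only [map_mul, map_pow, MonoidHom.mul_apply, MonoidHom.pow_apply, β.alt, ← hc,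
      hua, hub, hva, hvb, hau, hav, hbu, hbv, hvu, hab, hba, one_pow, one_mul, mul_one,
      ← pow_mul, ← pow_add]
    congr 1
    simp only [stdExp]
    ring
  let e₂ : (ψ : MulAut Q) → ((Fin 2 ⊕ Fin 2 → ZMod 2) →ₗ[ZMod 2] (Fin 2 ⊕ Fin 2 → ZMod 2)) :=
    fun ψ => (AddMonoidHom.mk' (fun x => (E.symm (ψ (E (Multiplicative.ofAdd x)))).toAdd)
      (fun x y => by simp only [ofAdd_add, map_mul, toAdd_mul])).toZModLinearMap 2
  have he₂ : ∀ ψ x, e₂ ψ x = (E.symm (ψ (E (Multiplicative.ofAdd x)))).toAdd := fun _ _ => rfl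
  have he₂mul : ∀ ψ φ, e₂ (ψ * φ) = (e₂ ψ).comp (e₂ φ) := by
    intro ψ φ
    refine LinearMap.ext fun x => ?_
    simp [he₂, MulAut.mul_apply]
  have hmem : ∀ ψ ∈ Y, LinearMap.toMatrix' (e₂ ψ) ∈ symplecticGroup (Fin 2) (ZMod 2) := by
    intro ψ hψ
    rw [SymplecticGroup.mem_iff']
    have hpres : ∀ x y, (stdExp (e₂ ψ x) (e₂ ψ y)) % 2 = (stdExp x y) % 2 := by
      intro x y
      have h := hY ψ hψ (E (Multiplicative.ofAdd x)) (E (Multiplicative.ofAdd y))
      rw [← E.apply_symm_apply (ψ (E (Multiplicative.ofAdd x))),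
        ← E.apply_symm_apply (ψ (E (Multiplicative.ofAdd y))), hform, hform, ← he₂, ← he₂] at h
      rw [pow_inj_mod, orderOf_eq_prime hc2 huv] at h
      exact h
    set M := LinearMap.toMatrix' (e₂ ψ) with hM
    refine Matrix.ext fun i j => ?_
    have key : ∀ (x y : Fin 2 ⊕ Fin 2 → ZMod 2), x ⬝ᵥ (J (Fin 2) (ZMod 2)) *ᵥ y =
        ((stdExp x y : ℕ) : ZMod 2) := by
      intro x y
      simp only [stdExp, Nat.cast_add, Nat.cast_mul, ZMod.natCast_val, ZMod.cast_id', id_eq, J,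
        Matrix.mulVec, dotProduct, Fintype.sum_sum_type, Fin.sum_univ_two,
        Matrix.fromBlocks_apply₁₁, Matrix.fromBlocks_apply₁₂, Matrix.fromBlocks_apply₂₁,
        Matrix.fromBlocks_apply₂₂, Matrix.zero_apply, Matrix.neg_apply, Matrix.one_apply]
      rw [ZMod.neg_eq_self_mod_two]
      simp
      ring
    have e1 : ∀ k, M *ᵥ Pi.single k 1 = e₂ ψ (Pi.single k 1) := fun k => by
      rw [hM, ← Matrix.toLin'_apply, Matrix.toLin'_toMatrix']
    have e2 : ∀ (A : Matrix (Fin 2 ⊕ Fin 2) (Fin 2 ⊕ Fin 2) (ZMod 2)) k l,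
        A k l = Pi.single k 1 ⬝ᵥ A *ᵥ Pi.single l 1 := fun A k l => by simp
    rw [e2 (Mᵀ * J (Fin 2) (ZMod 2) * M), e2 (J (Fin 2) (ZMod 2)) i j, ← Matrix.mulVec_mulVec,
      ← Matrix.mulVec_mulVec, e1, Matrix.dotProduct_mulVec, Matrix.vecMul_transpose, e1, key, key]
    rw [← ZMod.natCast_mod, hpres, ZMod.natCast_mod]
  let toSp : Y →* symplecticGroup (Fin 2) (ZMod 2) := MonoidHom.mk'
    (fun ψ => ⟨_, hmem ψ ψ.2⟩) fun ψ φ => Subtype.ext (by
      show LinearMap.toMatrix' (e₂ ((ψ : MulAut Q) * φ)) = _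
      rw [he₂mul, LinearMap.toMatrix'_comp]
      rfl)
  have hinj : Function.Injective toSp := by
    intro ψ φ h
    refine Subtype.ext (MulEquiv.ext fun x => ?_)
    obtain ⟨y, rfl⟩ := E.surjective x
    have h1 := LinearMap.toMatrix'.injective (congrArg Subtype.val h)
    have h2 := LinearMap.congr_fun h1 y.toAdd
    simp only [he₂, ofAdd_toAdd] at h2
    exact E.symm.injective (Multiplicative.toAdd.injective h2)
  let iso := (MulEquiv.ofBijective S0247.permHom S0247.permHom_bijective).symm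
  have := solvable_perm_bound hsol (iso.toMonoidHom.comp toSp)
    (iso.injective.comp hinj) (by simp)
  simpa [small] using this.2 (by simp)

end Cfsg.Agent.ClassNumber
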