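import Mathlib
import Cfsg.Agent.Lib.ClassNumber.Idem
import Cfsg.Agent.Lib.ClassNumber.Six
import Cfsg.Agent.Lib.ClassNumber.Layer
import Cfsg.Agent.Lib.ClassNumber.Arith
import Cfsg.Agent.Lib.Hall.MinimalNormal

/-!
# The primitive solvable linear groups
-/

set_option autoImplicit false

namespace Cfsg.Agent.ClassNumber

open scoped commutatorElement

universe u v

variable {L : Type u} [Group L]

/-- the properties wanted of the layer inside the centralizer of `A` -/
structure LayerPred (A C F : Subgroup L) : Prop where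
  norm : F.Normal
  le : A ≤ F
  leC : F ≤ C
  comm : ∀ x ∈ F, ∀ y ∈ F, ⁅x, y⁆ ∈ A
  sqf : ∀ r : ℕ, r.Prime → ∀ x ∈ F, x ^ (r * r) ∈ A → x ^ r ∈ A

theorem pow_prime_of_mul {G : Type*} [Group G] {a b : G} (hab : Commute a b) {r s : ℕ}
    (hr : r.Prime) (hs : s.Prime) (hb : b ^ s = 1)
    (ha : ∀ c : G, c ∈ Subgroup.zpowers a → c ^ (r * r) = 1 → c ^ r = 1)
    (h : (a * b) ^ (r * r) = 1) : (a * b) ^ r = 1 := by
  by_cases hrs : r = s
  · subst hrs
    rw [hab.mul_pow, pow_mul b, hb, one_pow, mul_one] at h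
    rw [hab.mul_pow, hb, mul_one]
    exact ha a (Subgroup.mem_zpowers a) h
  · have h1 : (a * b) ^ (r * s) = 1 := by
      have e : ((a * b) ^ s) = a ^ s := by rw [hab.mul_pow, hb, mul_one]
      rw [mul_comm, pow_mul, e]
      refine ha _ (Subgroup.pow_mem _ (Subgroup.mem_zpowers a) s) ?_
      rw [← e, ← pow_mul, mul_comm, pow_mul, h, one_pow]
    have h2 := Nat.dvd_gcd (orderOf_dvd_of_pow_eq_one h) (orderOf_dvd_of_pow_eq_one h1)
    rw [Nat.gcd_mul_left, (Nat.coprime_primes hr hs).2 hrs, mul_one] at h2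
    exact orderOf_dvd_iff_pow_eq_one.1 h2

/-- the layer exists -/
theorem exists_layer [Finite L] [Group.IsSolvable L] (A : Subgroup L) [hAn : A.Normal]
    (hA : ∀ a ∈ A, ∀ b ∈ A, a * b = b * a)
    (hmax : ∀ B : Subgroup L, B.Normal → (∀ a ∈ B, ∀ b ∈ B, a * b = b * a) → A ≤ B → B = A) :
    ∃ F : Subgroup L, LayerPred A (Subgroup.centralizer (A : Set L)) F ∧
      ∀ c ∈ Subgroup.centralizer (A : Set L), (∀ x ∈ F, c * x = x * c) → c ∈ A := by
  classical
  set C := Subgroup.centralizer (A : Set L) with hC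
  haveI hCn : C.Normal := Subgroup.normal_centralizer
  have hAC : A ≤ C := fun a ha => Subgroup.mem_centralizer_iff.2 fun b hb => hA b hb a ha
  obtain ⟨F, -, hF, hFmax⟩ := exists_maximal_ge_of_wellFoundedGT
    (fun F : Subgroup L => LayerPred A C F) A
    { norm := hAn
      le := le_rfl
      leC := hAC
      comm := fun x hx y hy => by
        rw [commutatorElement_eq_one_iff_mul_comm.2 (hA x hx y hy)]
        exact A.one_mem
      sqf := fun r _ x hx _ => A.pow_mem hx r }
  refine ⟨F, hF, ?_⟩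
  by_contra hcon
  push Not at hcon
  obtain ⟨c, hcC, hcF, hcA⟩ := hcon
  haveI := hF.norm
  set D0 := C ⊓ Subgroup.centralizer (F : Set L) with hD0
  haveI : (Subgroup.centralizer (F : Set L)).Normal := Subgroup.normal_centralizer
  haveI hD0n : D0.Normal := inferInstanceAs (C ⊓ Subgroup.centralizer (F : Set L)).Normal
  have hAD0 : A ≤ D0 := fun a ha => ⟨hAC ha, Subgroup.mem_centralizer_iff.2 fun f hf =>
    (Subgroup.mem_centralizer_iff.1 (hF.leC hf) a ha).symm⟩
  have hcD0 : c ∈ D0 := ⟨hcC, Subgroup.mem_centralizer_iff.2 fun f hf => (hcF f hf).symm⟩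
  set π := QuotientGroup.mk' A with hπ
  haveI : (D0.map π).Normal := hD0n.map π (QuotientGroup.mk'_surjective A)
  have hne : D0.map π ≠ ⊥ := by
    intro h
    have : π c ∈ D0.map π := Subgroup.mem_map_of_mem π hcD0
    rw [h, Subgroup.mem_bot, hπ, QuotientGroup.mk'_apply, QuotientGroup.eq_one_iff] at this
    exact hcA this
  obtain ⟨M0, hM0le, ⟨hM0n, hM0ne⟩, hM0min⟩ := exists_minimal_le_of_wellFoundedLT
    (fun M : Subgroup (L ⧸ A) => M.Normal ∧ M ≠ ⊥) (D0.map π) ⟨inferInstance, hne⟩
  haveI := hM0n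
  obtain ⟨q, hq, hqd, -, hMc, hMexp⟩ := Hall.minimal_normal_isElementaryAbelian hM0ne
    (fun K hK hKM => by
      by_cases h : K = ⊥
      · exact Or.inl h
      · exact Or.inr (le_antisymm hKM (hM0min ⟨hK, h⟩ hKM)))
  set M := M0.comap π with hM
  haveI : M.Normal := hM0n.comap π
  have hMD0 : M ≤ D0 := by
    intro m hm
    obtain ⟨d, hd, hdm⟩ := hM0le hm
    have := D0.mul_mem hd (hAD0 (QuotientGroup.eq.1 hdm))
    rwa [mul_inv_cancel_left] at this
  have hpow : ∀ m ∈ M0, m ^ q = 1 := hMexp
  have hcommM : ∀ x ∈ M0, ∀ y ∈ M0, x * y = y * x := fun x hx y hy =>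
    congrArg Subtype.val (hMc.is_comm.comm ⟨x, hx⟩ ⟨y, hy⟩)
  have hFcomm : ∀ x ∈ F, ∀ y ∈ F, π x * π y = π y * π x := fun x hx y hy => by
    rw [← commutatorElement_eq_one_iff_mul_comm, ← map_commutatorElement, hπ,
      QuotientGroup.mk'_apply, QuotientGroup.eq_one_iff]
    exact hF.comm x hx y hy
  have hFM : ∀ x ∈ F, ∀ m ∈ M, π x * π m = π m * π x := fun x hx m hm => by
    rw [← map_mul, ← map_mul, Subgroup.mem_centralizer_iff.1 (hMD0 hm).2 x hx]
  have hnew : LayerPred A C (F ⊔ M) :=
    { norm := Subgroup.sup_normal F M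
      le := hF.le.trans le_sup_left
      leC := sup_le hF.leC fun m hm => (hMD0 hm).1
      comm := fun x hx y hy => by
        obtain ⟨f, hf, m, hm, rfl⟩ := Subgroup.mem_sup_of_normal_right.1 hx
        obtain ⟨f', hf', m', hm', rfl⟩ := Subgroup.mem_sup_of_normal_right.1 hy
        rw [← QuotientGroup.eq_one_iff, ← QuotientGroup.mk'_apply, map_commutatorElement,
          commutatorElement_eq_one_iff_mul_comm, map_mul, map_mul]
        have c1 : Commute (π f) (π f') := hFcomm f hf f' hf'
        have c2 : Commute (π f) (π m') := hFM f hf m' hm'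
        have c3 : Commute (π m) (π f') := (hFM f' hf' m hm).symm
        have c4 : Commute (π m) (π m') := hcommM _ hm _ hm'
        exact (c1.mul_right c2).mul_left (c3.mul_right c4)
      sqf := fun r hr x hx hxr => by
        obtain ⟨f, hf, m, hm, rfl⟩ := Subgroup.mem_sup_of_normal_right.1 hx
        rw [← QuotientGroup.eq_one_iff, ← QuotientGroup.mk'_apply, map_pow, map_mul] at hxr ⊢
        refine pow_prime_of_mul (show Commute (π f) (π m) from hFM f hf m hm) hr hq
          (hpow _ hm) (fun z hz hzr => ?_) hxr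
        obtain ⟨i, rfl⟩ := Subgroup.mem_zpowers_iff.1 hz
        rw [← map_zpow, ← map_pow, hπ, QuotientGroup.mk'_apply, QuotientGroup.eq_one_iff] at hzr ⊢
        exact hF.sqf r hr _ (F.zpow_mem hf i) hzr }
  have hMF : M ≤ F := le_sup_right.trans (hFmax hnew le_sup_left)
  have hZ := hmax (F ⊓ Subgroup.centralizer (F : Set L)) inferInstance
    (fun a ha b hb => (Subgroup.mem_centralizer_iff.1 hb.2 a ha.1))
    (fun a ha => ⟨hF.le ha, (hAD0 ha).2⟩)
  refine hM0ne ((Subgroup.eq_bot_iff_forall _).2 fun z hz => ?_)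
  obtain ⟨m, rfl⟩ := QuotientGroup.mk'_surjective A z
  have hm : m ∈ F ⊓ Subgroup.centralizer (F : Set L) := ⟨hMF hz, (hMD0 hz).2⟩
  rw [hZ] at hm
  exact (QuotientGroup.eq_one_iff m).2 hm

set_option maxHeartbeats 3200000 in
/-- the numerical bound for a primitive block -/
theorem prim_bound {p : ℕ} [hp : Fact p.Prime] (hp11 : 11 ≤ p) [Finite L]
    (hsol : Group.IsSolvable L) {W : Type v} [AddCommGroup W] [Module (ZMod p) W] [Finite W]
    [Nontrivial W] (ρ : Representation (ZMod p) L W) (hinj : Function.Injective ρ)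
    (hprim : Prim ρ) (hd : 2 ≤ Module.finrank (ZMod p) W) {m kH x : ℕ} (hm : 1 ≤ m)
    (hk : Nat.card (ConjClasses L) ≤ m * kH) (hx : orbs ρ * m ≤ x) :
    49 * p ≤ 60 * (kH + x) := by
  classical
  haveI := hsol
  obtain ⟨A, hA, hAmax⟩ := Finset.exists_max_image
    ((Set.toFinite {B : Subgroup L | B.Normal ∧ ∀ a ∈ B, ∀ b ∈ B, a * b = b * a}).toFinset)
    (fun B => Nat.card B) ⟨⊥, by simp [Subgroup.normal_bot]⟩
  rw [Set.Finite.mem_toFinset] at hA
  obtain ⟨hAn, hAc⟩ := hA
  haveI := hAn
  have hmax : ∀ B : Subgroup L, B.Normal → (∀ a ∈ B, ∀ b ∈ B, a * b = b * a) → A ≤ B → B = A :=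
    fun B hB hBc hAB => (Subgroup.eq_of_le_of_card_ge hAB
      (hAmax B (by rw [Set.Finite.mem_toFinset]; exact ⟨hB, hBc⟩))).symm
  haveI : Finite (Module.End (ZMod p) W) := DFunLike.finite _
  set K := Algebra.adjoin (ZMod p) (ρ '' (A : Set L)) with hK
  letI : Field K := (hprim.isField A hAc).toField
  haveI : Finite K := inferInstance
  haveI : IsScalarTower (ZMod p) K W := ⟨fun c x w => rfl⟩
  haveI : Module.Finite (ZMod p) W := Module.Finite.of_finite
  haveI : Module.Finite K W := Module.Finite.of_finite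
  haveI : Module.Finite (ZMod p) K := Module.Finite.of_finite
  set a := Module.finrank (ZMod p) K with ha
  set D := Module.finrank K W with hD
  have had : a * D = Module.finrank (ZMod p) W := Module.finrank_mul_finrank (ZMod p) K W
  have ha1 : 1 ≤ a := Module.finrank_pos
  have hD1 : 1 ≤ D := Module.finrank_pos
  set C := Subgroup.centralizer (A : Set L) with hC
  -- the Galois quotient
  have hcjK : ∀ (g : L), ∀ y ∈ K, cj ρ g y ∈ K := by
    intro g y hy
    induction hy using Algebra.adjoin_induction with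
    | mem y hy =>
      obtain ⟨b, hb, rfl⟩ := hy
      refine Algebra.subset_adjoin ⟨g * b * g⁻¹, hAn.conj_mem b hb g, ?_⟩
      simp [cj, map_mul]
    | algebraMap r =>
      have : cj ρ g (algebraMap _ (Module.End (ZMod p) W) r) = algebraMap _ _ r := by
        rw [cj, ← Algebra.commutes, mul_assoc, rho_inv', mul_one]
      rw [this]
      exact K.algebraMap_mem r
    | add y z _ _ hy hz =>
      rw [cj, mul_add, add_mul]
      exact K.add_mem hy hz
    | mul y z _ _ hy hz =>
      rw [← cj_mul]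
      exact K.mul_mem hy hz
  let aut : L → (K ≃ₐ[ZMod p] K) := fun g => AlgEquiv.ofAlgHom
    { toFun := fun y => ⟨cj ρ g y, hcjK g y y.2⟩
      map_one' := Subtype.ext (by simp [cj, rho_inv'])
      map_mul' := fun y z => Subtype.ext (cj_mul ρ g y z).symm
      map_zero' := Subtype.ext (by simp [cj])
      map_add' := fun y z => Subtype.ext (by simp [cj, mul_add, add_mul])
      commutes' := fun r => Subtype.ext (by
        show cj ρ g (algebraMap _ _ r) = algebraMap _ _ r
        rw [cj, ← Algebra.commutes, mul_assoc, rho_inv', mul_one]) }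
    { toFun := fun y => ⟨cj ρ g⁻¹ y, hcjK g⁻¹ y y.2⟩
      map_one' := Subtype.ext (by simp [cj, rho_inv])
      map_mul' := fun y z => Subtype.ext (cj_mul ρ g⁻¹ y z).symm
      map_zero' := Subtype.ext (by simp [cj])
      map_add' := fun y z => Subtype.ext (by simp [cj, mul_add, add_mul])
      commutes' := fun r => Subtype.ext (by
        show cj ρ g⁻¹ (algebraMap _ _ r) = algebraMap _ _ r
        rw [cj, ← Algebra.commutes, mul_assoc, rho_inv', mul_one]) }
    (AlgHom.ext fun y => Subtype.ext (by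
      show cj ρ g (cj ρ g⁻¹ y) = y
      rw [cj_cj, mul_inv_cancel, cj_one]))
    (AlgHom.ext fun y => Subtype.ext (by
      show cj ρ g⁻¹ (cj ρ g y) = y
      rw [cj_cj, inv_mul_cancel, cj_one]))
  let gal : L →* (K ≃ₐ[ZMod p] K) := MonoidHom.mk' aut fun g h =>
    AlgEquiv.ext fun y => Subtype.ext (cj_cj ρ g h y).symm
  have hker : gal.ker ≤ C := fun g hg => Subgroup.mem_centralizer_iff.2 fun b hb => by
    have h1 : cj ρ g (ρ b) = ρ b := congrArg Subtype.val
      (DFunLike.congr_fun (MonoidHom.mem_ker.1 hg) (⟨ρ b, Algebra.subset_adjoin ⟨b, hb, rfl⟩⟩ : K))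
    rw [cj, ← map_mul, ← map_mul] at h1
    exact (mul_inv_eq_iff_eq_mul.1 (hinj h1)).symm
  have hidx : C.index ≤ a := by
    calc C.index ≤ gal.ker.index :=
          Nat.le_of_dvd (Nat.pos_of_ne_zero gal.ker.index_ne_zero_of_finite)
            (Subgroup.index_dvd_of_le hker)
      _ = Nat.card gal.range := Subgroup.index_ker _
      _ ≤ Nat.card (K ≃ₐ[ZMod p] K) := Subgroup.card_le_card_group _
      _ ≤ a := by
          haveI := Fintype.ofFinite (K ≃ₐ[ZMod p] K)
          rw [Nat.card_eq_fintype_card]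
          convert AlgEquiv.card_le (F := ZMod p) (K := K)
  -- the linear action of the centralizer
  have hlin : ∀ g ∈ C, ∀ y ∈ K, ρ g * y = y * ρ g := by
    intro g hg y hy
    induction hy using Algebra.adjoin_induction with
    | mem y hy =>
      obtain ⟨b, hb, rfl⟩ := hy
      rw [← map_mul, ← map_mul, Subgroup.mem_centralizer_iff.1 hg b hb]
    | algebraMap r => exact (Algebra.commutes r _).symm
    | add y z _ _ hy hz => rw [mul_add, add_mul, hy, hz]
    | mul y z _ _ hy hz => rw [← mul_assoc, hy, mul_assoc, hz, mul_assoc]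
  let τ : C →* Module.End K W :=
    { toFun := fun g =>
        { toFun := fun w => ρ (g : L) w
          map_add' := fun w w' => map_add _ w w'
          map_smul' := fun y w => LinearMap.congr_fun (hlin g g.2 y y.2) w }
      map_one' := LinearMap.ext fun w => by simp
      map_mul' := fun g h => LinearMap.ext fun w => by simp }
  obtain ⟨F, hF, hself⟩ := exists_layer A hAc hmax
  have hAC : A ≤ C := hF.le.trans hF.leC
  haveI := hF.norm
  obtain ⟨S⟩ : Nonempty (LayerData τ) := ⟨
    { A := A.subgroupOf C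
      normA := inferInstance
      F := F.subgroupOf C
      normF := inferInstance
      inj := fun g h hgh => Subtype.ext (hinj (LinearMap.ext fun w => LinearMap.congr_fun hgh w))
      cen := fun b hb g => Subtype.ext (Subgroup.mem_centralizer_iff.1 g.2 _ hb)
      ψ :=
        { toFun := fun b => ⟨ρ ((b : C) : L), Algebra.subset_adjoin ⟨_, b.2, rfl⟩⟩
          map_one' := Subtype.ext (map_one ρ)
          map_mul' := fun b b' => Subtype.ext (map_mul ρ _ _) }
      scalar := fun b w => rfl
      le := fun b hb => hF.le hb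
      comm := fun y hy z hz => hF.comm _ hy _ hz
      sqf := fun r hr y hy h => hF.sqf r hr _ hy h
      self := fun g hg => hself g g.2 fun y hy =>
        congrArg Subtype.val (hg ⟨y, hF.leC hy⟩ hy) }⟩
  haveI := S.isCyclic
  haveI : Group.IsSolvable C := inferInstance
  obtain ⟨e, hQe, hye⟩ := sq_bound (Nat.card S.Q) S.Q S.A S.pairing S.act.range rfl S.sqFreeExp
    S.preserves
  set y := Nat.card S.act.range with hy
  set z := Nat.card S.A with hz
  set kb := Nat.card (ConjClasses (C ⧸ S.A)) with hkb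
  have hz0 : 0 < z := Nat.card_pos
  have hy0 : 0 < y := Nat.card_pos
  have hct : Nat.card (C ⧸ S.A) = e ^ 2 * y := by rw [S.card_quot, hQe]
  have he1 : 1 ≤ e := by
    rcases Nat.eq_zero_or_pos e with rfl | h
    · exact absurd hQe (Nat.card_pos (α := S.Q)).ne'
    · exact h
  have heD : e ≤ D := by
    have := S.card_Q_le
    rw [hQe, ← hD] at this
    nlinarith
  have hLcard : Nat.card L ≤ a * (z * (e ^ 2 * y)) := by
    rw [← C.card_mul_index, mul_comm, ← hct, hz, ← Subgroup.index_eq_card,
      Subgroup.card_mul_index]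
    exact Nat.mul_le_mul_right _ hidx
  have hkC : Nat.card (ConjClasses C) ≤ a * Nat.card (ConjClasses L) :=
    (Counting.Commuting.card_conjClasses_subgroup_le C).trans (Nat.mul_le_mul_right _ hidx)
  have hclasses : z * (D + kb - 1) ≤ Nat.card (ConjClasses C) * D := S.classes_bound
  have horb : p ^ (a * D) - 1 ≤ orbs ρ * Nat.card L := by
    have := card_sub_one_le_orbs ρ
    rwa [Module.natCard_eq_pow_finrank (K := ZMod p) (V := W), Nat.card_zmod, ← had] at this
  have hzdvd : z ∣ p ^ a - 1 := by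
    have hf : Function.Injective (S.ψ.toHomUnits) := fun b b' h =>
      S.psi_injective (congrArg Units.val h)
    have := Subgroup.card_dvd_of_injective _ hf
    rwa [Nat.card_units, Module.natCard_eq_pow_finrank (K := ZMod p) (V := K), Nat.card_zmod] at this
  -- the pairing gives an element of order `r` among the scalars
  have hdvd : ∀ r : ℕ, r.Prime → r ∣ Nat.card S.Q → r ∣ z := by
    intro r hr hrQ
    obtain ⟨u, w, Q', β', Y', hu, -, huw, -⟩ :=
      step S.pairing S.sqFreeExp S.act.range S.preserves hr hrQ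
    haveI := Fact.mk hr
    have : S.pairing.form u w ^ r = 1 := by
      rw [← MonoidHom.pow_apply, ← map_pow, hu, map_one, MonoidHom.one_apply]
    rw [← orderOf_eq_prime this huw]
    exact orderOf_dvd_natCard _
  have hy2 : e = 2 → y ∣ 6 := by
    rintro rfl
    haveI := Fintype.ofFinite S.Q
    let f : S.act.range → Equiv.Perm {q : S.Q // q ≠ 1} := fun φ =>
      (φ : MulAut S.Q).toEquiv.subtypeEquiv fun q => by simp
    let fh : S.act.range →* Equiv.Perm {q : S.Q // q ≠ 1} :=
      MonoidHom.mk' f fun φ φ' => Equiv.ext fun q => rfl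
    have hfi : Function.Injective fh := fun φ φ' h => by
      refine Subtype.ext (MulEquiv.ext fun q => ?_)
      by_cases hq : q = 1
      · simp [hq]
      · exact congrArg Subtype.val (Equiv.congr_fun h ⟨q, hq⟩)
    have := Subgroup.card_dvd_of_injective fh hfi
    rwa [Nat.card_perm, Nat.card_eq_fintype_card (α := {q : S.Q // q ≠ 1}),
      Fintype.card_subtype_compl, Fintype.card_subtype_eq, ← Nat.card_eq_fintype_card, hQe,
      show Nat.factorial (2 ^ 2 - 1) = 6 from rfl] at this
  have hy3 : e = 3 → y ≤ 24 ∧ 3 ∣ p ^ a - 1 := by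
    rintro rfl
    exact ⟨(small_bound S.pairing S.act.range S.sqFreeExp S.preserves).2.1 (by rw [hQe]; rfl),
      (hdvd 3 Nat.prime_three (by rw [hQe]; exact ⟨3, rfl⟩)).trans hzdvd⟩
  have hy4 : e = 4 → y ≤ 72 := by
    rintro rfl
    exact solvable_sixteen S.pairing S.sqFreeExp S.act.range S.preserves S.range_solvable
      (by rw [hQe]; rfl)
  have hy8 : e = 8 → y ≤ 145152 := by
    rintro rfl
    obtain ⟨u, w, Q', β', Y', -, -, -, hcard, -, -, -, hY', hsol', hle⟩ :=
      step S.pairing S.sqFreeExp S.act.range S.preserves Nat.prime_two (by rw [hQe]; norm_num)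
    have h1 := solvable_sixteen β' (S.sqFreeExp.subgroup Q') Y' hY' (hsol' S.range_solvable)
      (by rw [hQe] at hcard; omega)
    rw [hQe, show ((8 : ℕ) ^ 2) = 2 ^ 6 from rfl, Nat.Prime.factorization_pow Nat.prime_two,
      Finsupp.single_eq_same] at hle
    rw [show ((2 : ℕ) ^ 6 - 1) * (2 ^ 6 / 2) = 2016 from rfl] at hle
    omega
  obtain ⟨hf2, hf3, hf4⟩ := card_le_of_few (G := C ⧸ S.A)
  rw [hct, ← hkb] at hf2 hf3 hf4
  have hk1 : 1 ≤ kb := Nat.card_pos
  rcases prim_arith hp11 hp.out ha1 hD1 (by omega) he1 heD hye hy2 hy3 hy4 hy8 hk1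
      (fun h => by by_contra h'; have := hf2 (by omega); omega)
      (fun h => by by_contra h'; have := hf3 (by omega); omega)
      (fun h => by by_contra h'; have := hf4 (by omega); omega) with
    hmain | ⟨hae, hDe, hee, hye'⟩ | ⟨hae, hDe, hee, hpe, hct42⟩
  · refine of_prod ?_
    refine Nat.le_of_mul_le_mul_left ?_
      (show 0 < a ^ 2 * D * (e ^ 2 * y) * z by positivity)
    calc a ^ 2 * D * (e ^ 2 * y) * z * (2401 * p ^ 2)
        = z * (2401 * p ^ 2 * (a ^ 2 * D * (e ^ 2 * y))) := by ring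
      _ ≤ z * (14400 * (p ^ (a * D) - 1) * (D + kb - 1)) := Nat.mul_le_mul_left _ hmain
      _ = 14400 * (p ^ (a * D) - 1) * (z * (D + kb - 1)) := by ring
      _ ≤ 14400 * (orbs ρ * (a * (z * (e ^ 2 * y)))) * (a * Nat.card (ConjClasses L) * D) := by
          refine Nat.mul_le_mul (Nat.mul_le_mul_left _ (horb.trans (Nat.mul_le_mul_left _ hLcard)))
            (hclasses.trans (Nat.mul_le_mul_right _ hkC))
      _ ≤ 14400 * (orbs ρ * (a * (z * (e ^ 2 * y)))) * (a * (m * kH) * D) := by gcongr
      _ = a ^ 2 * D * (e ^ 2 * y) * z * (14400 * (kH * (orbs ρ * m))) := by ring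
      _ ≤ _ := by gcongr
  · subst hee
    have h2 : (2 : K) ≠ 0 := by
      intro h
      haveI : CharP K p := charP_of_injective_algebraMap (algebraMap (ZMod p) K).injective p
      have := Nat.le_of_dvd (by norm_num) ((CharP.cast_eq_zero_iff K p 2).1 (by exact_mod_cast h))
      omega
    have h4 := S.four_bound h2 (hD ▸ hDe) (by rw [hQe]; rfl) hye'
    rw [hae, pow_one] at hzdvd
    rw [hae, one_mul] at hLcard hkC
    rw [hae, hDe] at horb
    rw [hye'] at hLcard
    obtain ⟨j, hj⟩ := hzdvd
    refine arith_two hp11 hp.out hj.symm hm (horb.trans (Nat.mul_le_mul_left _ ?_))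
      (h4.trans (hkC.trans hk)) hx
    calc Nat.card L ≤ z * (2 ^ 2 * 6) := hLcard
      _ = _ := by ring
  · subst hpe
    subst hee
    rw [hae, pow_one] at hzdvd
    rw [hae, one_mul] at hLcard hkC
    rw [hae, hDe] at horb
    rw [hDe] at hclasses
    have hkb5 : 5 ≤ kb := by by_contra h'; have := hf4 (by omega); omega
    have hct216 : 3 ^ 2 * y ≤ 216 := by have := (hy3 rfl).1; norm_num; omega
    refine arith_three13 hzdvd (hdvd 3 Nat.prime_three (by rw [hQe]; exact ⟨3, rfl⟩)) hm hct216
      (horb.trans (Nat.mul_le_mul_left _ hLcard)) ?_ (hkC.trans hk) hx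
    calc 7 * z ≤ z * (3 + kb - 1) := by rw [mul_comm]; exact Nat.mul_le_mul_left _ (by omega)
      _ ≤ _ := by rw [mul_comm 3]; exact hclasses

end Cfsg.Agent.ClassNumber
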