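import Mathlib
import Cfsg.Agent.Lib.ClassNumber.Count
import Cfsg.Agent.Lib.ClassNumber.Blocks
import Cfsg.Agent.Lib.ClassNumber.Primitive
import Cfsg.Agent.Lib.Hall.MinimalNormal

/-!
# The class number of a solvable group of order divisible by the square of a prime
-/

set_option autoImplicit false

namespace Cfsg.Agent.ClassNumber

open scoped commutatorElement

universe u v

/-- the bound for an irreducible solvable linear group -/
theorem module_bound {p : ℕ} [hp : Fact p.Prime] {H : Type u} [Group H] [Finite H]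
    (hsol : Group.IsSolvable H) {V : Type v} [AddCommGroup V] [Module (ZMod p) V] [Finite V]
    (ρ : Representation (ZMod p) H V) (hinj : Function.Injective ρ) (hirr : Irr ρ)
    (hn : 2 ≤ Module.finrank (ZMod p) V) :
    49 * p ≤ 60 * (Nat.card (ConjClasses H) + orbs ρ) := by
  classical
  haveI : Module.Finite (ZMod p) V := Module.Finite.of_finite
  haveI : Nontrivial V := Module.nontrivial_of_finrank_pos (R := ZMod p) (show 0 < _ by omega)
  have hV : Nat.card V = p ^ Module.finrank (ZMod p) V := by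
    rw [Module.natCard_eq_pow_finrank (K := ZMod p) (V := V), Nat.card_zmod]
  have horb := card_sub_one_le_orbs ρ
  rw [hV] at horb
  have hk0 : 0 < Nat.card (ConjClasses H) := Nat.card_pos
  have hV2 : p ^ 2 ≤ p ^ Module.finrank (ZMod p) V := Nat.pow_le_pow_right hp.out.pos hn
  by_cases h11 : p < 11
  · obtain ⟨f2, f3, f4⟩ := card_le_of_few (G := H)
    have hH : 0 < Nat.card H := Nat.card_pos
    have key : ∀ N, Nat.card H ≤ N → p ^ 2 - 1 ≤ orbs ρ * N := fun N hN =>
      le_trans (by omega) (horb.trans (Nat.mul_le_mul_left _ hN))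
    have h1 : 1 ≤ orbs ρ := by
      rcases Nat.eq_zero_or_pos (orbs ρ) with h | h
      · rw [h, zero_mul] at horb
        have : 2 ^ 2 ≤ p ^ 2 := Nat.pow_le_pow_left hp.out.two_le 2
        omega
      · exact h
    have := hp.out
    interval_cases p <;> try norm_num at this
    · omega
    · rcases Nat.lt_or_ge (Nat.card (ConjClasses H)) 2 with h | h
      · have := key 2 (f2 (by omega)); norm_num at this; omega
      · omega
    · rcases Nat.lt_or_ge (Nat.card (ConjClasses H)) 4 with h | h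
      · have := key 6 (f3 (by omega)); norm_num at this; omega
      · omega
    · rcases Nat.lt_or_ge (Nat.card (ConjClasses H)) 5 with h | h
      · rcases Nat.lt_or_ge (Nat.card (ConjClasses H)) 4 with h' | h'
        · have := key 6 (f3 (by omega)); norm_num at this; omega
        · have := key 42 (f4 (by omega)); norm_num at this; omega
      · omega
  push Not at h11
  haveI : Finite (Module.End (ZMod p) V) := DFunLike.finite _
  obtain ⟨m, W, L, hm, hLsol, hcard, hWn, hprim, hkL, horbL, hline⟩ :=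
    exists_block hsol ρ hirr hinj
  haveI := hWn
  haveI : Module.Finite (ZMod p) W := Module.Finite.of_finite
  haveI : Finite (Module.End (ZMod p) W) := DFunLike.finite _
  rcases Nat.lt_or_ge (Module.finrank (ZMod p) W) 2 with hd | hd
  · have hd1 : Module.finrank (ZMod p) W = 1 := by
      have := Module.finrank_pos (R := ZMod p) (M := W)
      omega
    have hW : Nat.card W = p := by
      rw [Module.natCard_eq_pow_finrank (K := ZMod p) (V := W), Nat.card_zmod, hd1, pow_one]
    have hm2 : Module.finrank (ZMod p) V = m :=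
      Nat.pow_right_injective hp.out.two_le (hV.symm.trans (hcard.trans (by rw [hW])))
    obtain ⟨t, ht, hH⟩ := hline hd1
    rw [hm2] at horb hn
    have ht0 : 0 < t := by
      rcases Nat.eq_zero_or_pos t with rfl | h
      · have := (Nat.card_pos (α := H)); simp at hH; omega
      · exact h
    refine of_prod (Nat.le_of_mul_le_mul_left ?_ (pow_pos ht0 2))
    calc t ^ 2 * (2401 * p ^ 2) = 2401 * p ^ 2 * t ^ 2 := by ring
      _ ≤ 14400 * (p ^ m - 1) := mono_arith h11 hn ht
      _ ≤ 14400 * (orbs ρ * (Nat.card (ConjClasses H) * t ^ 2)) :=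
          Nat.mul_le_mul_left _ (horb.trans (Nat.mul_le_mul_left _ hH))
      _ = _ := by ring
  · exact prim_bound h11 hLsol (unitsRep L) (unitsRep_injective L) hprim hd hm hkL horbL

section Group

variable {G : Type u} [Group G]

/-- a group centralizing a normal `p`-subgroup, larger than it by a layer of another prime,
gives a normal subgroup of order prime to `p` -/
theorem exists_prime_to_normal [Finite G] {p q : ℕ} [Fact p.Prime] (hq : q.Prime) (hqp : q ≠ p)
    (P M : Subgroup G) [P.Normal] [M.Normal] (hPM : P < M) (hP : IsPGroup p P)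
    (hcen : ∀ m ∈ M, ∀ x ∈ P, m * x = x * m) (hcomm : ∀ a ∈ M, ∀ b ∈ M, ⁅a, b⁆ ∈ P)
    (hpow : ∀ a ∈ M, a ^ q ∈ P) :
    ∃ T : Subgroup G, T.Normal ∧ T ≠ ⊥ ∧ ¬ p ∣ Nat.card T := by
  have hco : ∀ c ∈ P, c ^ q = 1 → c = 1 := by
    intro c hc hcq
    obtain ⟨j, hj⟩ := hP ⟨c, hc⟩
    have hcj : c ^ p ^ j = 1 := congrArg Subtype.val hj
    have h := Nat.dvd_gcd (orderOf_dvd_of_pow_eq_one hcq) (orderOf_dvd_of_pow_eq_one hcj)
    have hg : Nat.gcd q (p ^ j) = 1 :=
      Nat.Coprime.pow_right j ((Nat.coprime_primes hq (Fact.out : p.Prime)).2 hqp)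
    rw [hg, Nat.dvd_one, orderOf_eq_one_iff] at h
    exact h
  have hcom1 : ∀ a ∈ M, ∀ b ∈ M, b ^ q = 1 → Commute a b := by
    intro a ha b hb hbq
    set c := ⁅a, b⁆ with hc
    have hcP : c ∈ P := hcomm a ha b hb
    have hcb : Commute c b := (hcen b hb c hcP).symm
    have hconj : a * b * a⁻¹ = c * b := by
      rw [hc, commutatorElement_def]; group
    have h1 : (c * b) ^ q = 1 := by
      rw [← hconj, conj_pow, hbq, mul_one, mul_inv_cancel]
    rw [hcb.mul_pow, hbq, mul_one] at h1
    exact commutatorElement_eq_one_iff_commute.1 (hco c hcP h1)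
  let T : Subgroup G :=
    { carrier := {x | x ∈ M ∧ x ^ q = 1}
      one_mem' := ⟨M.one_mem, one_pow q⟩
      mul_mem' := fun {a b} ha hb => ⟨M.mul_mem ha.1 hb.1, by
        rw [(hcom1 a ha.1 b hb.1 hb.2).mul_pow, ha.2, hb.2, one_mul]⟩
      inv_mem' := fun {a} ha => ⟨M.inv_mem ha.1, by rw [inv_pow, ha.2, inv_one]⟩ }
  refine ⟨T, ⟨fun x hx g => ⟨(inferInstance : M.Normal).conj_mem x hx.1 g, by
    rw [conj_pow, hx.2, mul_one, mul_inv_cancel]⟩⟩, ?_, ?_⟩
  · obtain ⟨x, hxM, hxP⟩ := SetLike.exists_of_lt hPM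
    obtain ⟨j, hj⟩ := hP ⟨x ^ q, hpow x hxM⟩
    have hxj : (x ^ q) ^ p ^ j = 1 := congrArg Subtype.val hj
    intro h
    have hmem : x ^ p ^ j ∈ T := ⟨M.pow_mem hxM _, by rw [← pow_mul, mul_comm, pow_mul, hxj]⟩
    rw [h, Subgroup.mem_bot] at hmem
    -- the image of `x` would have order dividing both `q` and a power of `p`
    have h1 : (x : G ⧸ P) ^ q = 1 := by
      rw [← QuotientGroup.mk_pow, QuotientGroup.eq_one_iff]; exact hpow x hxM
    have h2 : (x : G ⧸ P) ^ p ^ j = 1 := by rw [← QuotientGroup.mk_pow, hmem, QuotientGroup.mk_one]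
    have h3 := Nat.dvd_gcd (orderOf_dvd_of_pow_eq_one h1) (orderOf_dvd_of_pow_eq_one h2)
    have hg : Nat.gcd q (p ^ j) = 1 :=
      Nat.Coprime.pow_right j ((Nat.coprime_primes hq (Fact.out : p.Prime)).2 hqp)
    rw [hg, Nat.dvd_one, orderOf_eq_one_iff, QuotientGroup.eq_one_iff] at h3
    exact hxP h3
  · intro hdvd
    obtain ⟨x, hx⟩ := exists_prime_orderOf_dvd_card' p hdvd
    have h1 : orderOf x ∣ q := orderOf_dvd_of_pow_eq_one (Subtype.ext x.2.2)
    rw [hx] at h1
    exact hqp ((Nat.prime_dvd_prime_iff_eq (Fact.out : p.Prime) hq).1 h1).symm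

/-- a layer of prime exponent just above a normal subgroup, inside its centralizer -/
theorem exists_layer_above [Finite G] [Group.IsSolvable G] (P C : Subgroup G) [P.Normal] [C.Normal]
    (hPC : P < C) :
    ∃ (q : ℕ) (M : Subgroup G), q.Prime ∧ M.Normal ∧ P < M ∧ M ≤ C ∧
      (∀ a ∈ M, ∀ b ∈ M, ⁅a, b⁆ ∈ P) ∧ (∀ a ∈ M, a ^ q ∈ P) := by
  set π := QuotientGroup.mk' P with hπ
  haveI : (C.map π).Normal := Subgroup.Normal.map inferInstance π (QuotientGroup.mk'_surjective P)
  obtain ⟨x, hxC, hxP⟩ := SetLike.exists_of_lt hPC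
  have hne : C.map π ≠ ⊥ := by
    intro h
    have : π x ∈ C.map π := Subgroup.mem_map_of_mem π hxC
    rw [h, Subgroup.mem_bot, hπ, QuotientGroup.mk'_apply, QuotientGroup.eq_one_iff] at this
    exact hxP this
  obtain ⟨M0, hM0le, ⟨hM0n, hM0ne⟩, hM0min⟩ := exists_minimal_le_of_wellFoundedLT
    (fun M : Subgroup (G ⧸ P) => M.Normal ∧ M ≠ ⊥) (C.map π) ⟨inferInstance, hne⟩
  haveI := hM0n
  obtain ⟨q, hq, -, -, hMc, hMexp⟩ := Hall.minimal_normal_isElementaryAbelian hM0ne
    (fun K hK hKM => by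
      by_cases h : K = ⊥
      · exact Or.inl h
      · exact Or.inr (le_antisymm hKM (hM0min ⟨hK, h⟩ hKM)))
  refine ⟨q, M0.comap π, hq, hM0n.comap π, ?_, ?_, ?_, ?_⟩
  · refine lt_of_le_of_ne (fun y hy => ?_) fun h => hM0ne ?_
    · rw [Subgroup.mem_comap, hπ, QuotientGroup.mk'_apply, (QuotientGroup.eq_one_iff y).2 hy]
      exact M0.one_mem
    · rw [eq_bot_iff]
      intro z hz
      obtain ⟨y, rfl⟩ := QuotientGroup.mk'_surjective P z
      have hyP : y ∈ P := h ▸ hz
      exact Subgroup.mem_bot.2 ((QuotientGroup.eq_one_iff y).2 hyP)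
  · intro m hm
    obtain ⟨d, hd, hdm⟩ := hM0le hm
    have := C.mul_mem hd (hPC.le (QuotientGroup.eq.1 hdm))
    rwa [mul_inv_cancel_left] at this
  · intro a ha b hb
    rw [← QuotientGroup.eq_one_iff, ← QuotientGroup.mk'_apply, map_commutatorElement,
      commutatorElement_eq_one_iff_mul_comm]
    exact congrArg Subtype.val (hMc.is_comm.comm ⟨_, ha⟩ ⟨_, hb⟩)
  · intro a ha
    rw [← QuotientGroup.eq_one_iff, QuotientGroup.mk_pow]
    exact hMexp _ ha

theorem conj_comm_of_cyclic {N : Subgroup G} [N.Normal] [hN : IsCyclic N] (g h : G) {y : G}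
    (hy : y ∈ N) : g * (h * y * h⁻¹) * g⁻¹ = h * (g * y * g⁻¹) * h⁻¹ := by
  obtain ⟨i, hi⟩ := MonoidHom.map_cyclic (MulAut.conjNormal (H := N) g).toMonoidHom
  obtain ⟨j, hj⟩ := MonoidHom.map_cyclic (MulAut.conjNormal (H := N) h).toMonoidHom
  have hg : ∀ z ∈ N, g * z * g⁻¹ = z ^ i := fun z hz => congrArg Subtype.val (hi ⟨z, hz⟩)
  have hh : ∀ z ∈ N, h * z * h⁻¹ = z ^ j := fun z hz => congrArg Subtype.val (hj ⟨z, hz⟩)
  rw [hh y hy, hg _ (N.zpow_mem hy j), hg y hy, hh _ (N.zpow_mem hy i), ← zpow_mul, ← zpow_mul,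
    mul_comm]

theorem pow_dvd_quotient [Finite G] {p k : ℕ} (hp : p.Prime) (T : Subgroup G) [T.Normal]
    (hT : ¬ p ∣ Nat.card T) (h : p ^ k ∣ Nat.card G) : p ^ k ∣ Nat.card (G ⧸ T) := by
  rw [Subgroup.card_eq_card_quotient_mul_card_subgroup T] at h
  exact (Nat.Coprime.pow_left k (hp.coprime_iff_not_dvd.2 hT)).dvd_of_dvd_mul_right h

theorem action_bound [Finite G] [Group.IsSolvable G] {p : ℕ} [hp : Fact p.Prime] {A : Type u}
    [CommGroup A] [Finite A] [Module (ZMod p) (Additive A)] (ι : A →* G)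
    (hι : Function.Injective ι) (φ : G →* MulAut A) (hφ : ∀ g a, ι (φ g a) = g * ι a * g⁻¹)
    (hmin : ∀ U : Subgroup G, U.Normal → U ≤ ι.range → U = ⊥ ∨ U = ι.range)
    (hbig : p ^ 2 ≤ Nat.card A) :
    49 * p ≤ 60 * Nat.card (ConjClasses G) := by
  classical
  set C := φ.ker with hC
  let c : G →* Module.End (ZMod p) (Additive A) :=
    { toFun := fun g => (φ g).toMonoidHom.toAdditive.toZModLinearMap p
      map_one' := LinearMap.ext fun x => Additive.toMul.injective (by
        show φ 1 (Additive.toMul x) = Additive.toMul x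
        rw [map_one]
        rfl)
      map_mul' := fun g h => LinearMap.ext fun x => Additive.toMul.injective (by
        show φ (g * h) (Additive.toMul x) = φ g (φ h (Additive.toMul x))
        rw [map_mul]
        rfl) }
  have hc : ∀ g x, Additive.toMul (c g x) = φ g (Additive.toMul x) := fun _ _ => rfl
  have hker : ∀ g, c g = 1 ↔ g ∈ C := by
    intro g
    rw [hC, MonoidHom.mem_ker]
    constructor
    · intro h
      refine MulEquiv.ext fun a => ?_
      have h1 := hc g (Additive.ofMul a)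
      rw [h] at h1
      exact h1.symm
    · intro h
      refine LinearMap.ext fun x => Additive.toMul.injective ?_
      rw [hc, h]
      rfl
  let ρ : Representation (ZMod p) (G ⧸ C) (Additive A) :=
    QuotientGroup.lift C c fun g hg => MonoidHom.mem_ker.2 ((hker g).2 hg)
  have hinj : Function.Injective ρ := by
    intro a b hab
    obtain ⟨g, rfl⟩ := QuotientGroup.mk_surjective a
    obtain ⟨h, rfl⟩ := QuotientGroup.mk_surjective b
    refine QuotientGroup.eq.2 ((hker _).1 ?_)
    change c g = c h at hab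
    rw [map_mul, ← hab, ← map_mul, inv_mul_cancel, map_one]
  have hirr : Irr ρ := by
    intro U hU
    have hnorm : (U.toAddSubgroup.toSubgroup'.map ι).Normal := by
      refine ⟨fun x hx g => ?_⟩
      obtain ⟨a, ha, rfl⟩ := hx
      refine ⟨φ g a, ?_, hφ g a⟩
      exact hU (g : G ⧸ C) (Additive.ofMul a) ha
    rcases hmin _ hnorm (Subgroup.map_le_range _ _) with h | h
    · refine Or.inl ((Submodule.eq_bot_iff U).2 fun x hx => ?_)
      have h1 : ι (Additive.toMul x) ∈ (⊥ : Subgroup G) := h ▸ ⟨Additive.toMul x, hx, rfl⟩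
      rw [Subgroup.mem_bot] at h1
      have h2 : Additive.toMul x = 1 := hι (h1.trans (map_one ι).symm)
      exact Additive.toMul.injective h2
    · refine Or.inr ((Submodule.eq_top_iff').2 fun x => ?_)
      have h1 : ι (Additive.toMul x) ∈ U.toAddSubgroup.toSubgroup'.map ι := by
        rw [h]; exact ⟨_, rfl⟩
      obtain ⟨a, ha, hax⟩ := h1
      rw [hι hax] at ha
      exact ha
  have hn : 2 ≤ Module.finrank (ZMod p) (Additive A) := by
    haveI : Module.Finite (ZMod p) (Additive A) := Module.Finite.of_finite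
    have h := Module.natCard_eq_pow_finrank (K := ZMod p) (V := Additive A)
    rw [Nat.card_zmod, Nat.card_congr Additive.toMul] at h
    rw [h] at hbig
    exact (Nat.pow_le_pow_iff_right hp.out.one_lt).1 hbig
  have hmain := module_bound (p := p) (inferInstance : Group.IsSolvable (G ⧸ C)) ρ hinj hirr hn
  refine hmain.trans (Nat.mul_le_mul_left _ (le_trans (Nat.add_le_add_left ?_ _)
    (card_quot_add_cls_le C)))
  -- orbits give classes
  let back : ConjClasses G → Set (Additive A) := fun cl =>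
    {x | ConjClasses.mk (ι (Additive.toMul x)) = cl}
  have hsub : orb ρ '' {x | x ≠ 0} ⊆
      back '' (ConjClasses.mk '' {g : G | g ∈ C ∧ g ≠ 1}) := by
    rintro _ ⟨x, hx, rfl⟩
    refine ⟨ConjClasses.mk (ι (Additive.toMul x)), ⟨_, ⟨?_, ?_⟩, rfl⟩, ?_⟩
    · rw [hC, MonoidHom.mem_ker]
      refine MulEquiv.ext fun a => hι ?_
      rw [hφ, ← map_mul, mul_comm, map_mul, mul_inv_cancel_right]
      rfl
    · exact fun h => hx (Additive.toMul.injective (hι (h.trans (map_one ι).symm)))
    · ext y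
      constructor
      · intro hy
        obtain ⟨g, hg⟩ := isConj_iff.1 (ConjClasses.mk_eq_mk_iff_isConj.1 hy).symm
        refine ⟨(g : G ⧸ C), Additive.toMul.injective (hι ?_)⟩
        show ι (φ g (Additive.toMul x)) = _
        rw [hφ, hg]
      · rintro ⟨q, rfl⟩
        obtain ⟨g, rfl⟩ := QuotientGroup.mk_surjective q
        refine ConjClasses.mk_eq_mk_iff_isConj.2 (isConj_iff.2 ⟨g, ?_⟩).symm
        rw [← hφ]
        rfl
  exact (Set.ncard_le_ncard hsub (Set.toFinite _)).trans (Set.ncard_image_le (Set.toFinite _))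

theorem elementary_module [Finite G] [Group.IsSolvable G] {p : ℕ} [hp : Fact p.Prime]
    (V : Subgroup G) [V.Normal] (hVc : ∀ a ∈ V, ∀ b ∈ V, a * b = b * a)
    (hVp : ∀ a ∈ V, a ^ p = 1)
    (hmin : ∀ U : Subgroup G, U.Normal → U ≤ V → U = ⊥ ∨ U = V) (hbig : p ^ 2 ≤ Nat.card V) :
    49 * p ≤ 60 * Nat.card (ConjClasses G) := by
  letI instV : CommGroup V :=
    { (inferInstance : Group V) with mul_comm := fun a b => Subtype.ext (hVc a a.2 b b.2) }
  letI : Module (ZMod p) (Additive V) := AddCommGroup.zmodModule (fun x => by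
    show Additive.ofMul ((Additive.toMul x) ^ p) = 0
    rw [show (Additive.toMul x) ^ p = 1 from Subtype.ext (hVp _ (Additive.toMul x).2)]
    rfl)
  refine action_bound (A := V) (p := p) V.subtype V.subtype_injective (MulAut.conjNormal (H := V))
    (fun _ _ => rfl) ?_ hbig
  rw [Subgroup.range_subtype]
  exact hmin

end Group

/-- the class number bound -/
theorem class_bound : ∀ (N : ℕ) (G : Type u) [Group G] [Finite G], Group.IsSolvable G →
    Nat.card G = N → ∀ (p : ℕ) [Fact p.Prime], p ^ 2 ∣ Nat.card G →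
      49 * p ≤ 60 * Nat.card (ConjClasses G) := by
  intro N
  induction N using Nat.strong_induction_on with
  | h N ih => ?_
  intro G _ _ hsol hN p hpF hdvd
  haveI := hsol
  have hp := hpF.out
  by_cases hsmall : ∃ T : Subgroup G, T.Normal ∧ T ≠ ⊥ ∧ p ^ 2 ∣ Nat.card (G ⧸ T)
  · obtain ⟨T, hT, hT1, hd⟩ := hsmall
    have hlt : Nat.card (G ⧸ T) < N := by
      rw [← hN, Subgroup.card_eq_card_quotient_mul_card_subgroup T]
      refine lt_mul_right Nat.card_pos ?_
      exact (Subgroup.one_lt_card_iff_ne_bot T).2 hT1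
    exact (ih _ hlt (G ⧸ T) inferInstance rfl p hd).trans (Nat.mul_le_mul_left _
      (card_conjClasses_le_of_surjective _ (QuotientGroup.mk'_surjective T)))
  push Not at hsmall
  have hno : ∀ T : Subgroup G, T.Normal → T ≠ ⊥ → p ∣ Nat.card T := fun T hT hT1 => by
    by_contra h
    haveI := hT
    exact hsmall T hT hT1 (pow_dvd_quotient hp T h hdvd)
  haveI : Nontrivial G := by
    rw [← Finite.one_lt_card_iff_nontrivial]
    have := Nat.le_of_dvd Nat.card_pos hdvd
    have : 2 ^ 2 ≤ p ^ 2 := Nat.pow_le_pow_left hp.two_le 2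
    omega
  obtain ⟨V, -, ⟨hVn, hV1⟩, hVmin⟩ := exists_minimal_le_of_wellFoundedLT
    (fun M : Subgroup G => M.Normal ∧ M ≠ ⊥) ⊤ ⟨inferInstance, top_ne_bot⟩
  haveI := hVn
  have hmin : ∀ K : Subgroup G, K.Normal → K ≤ V → K = ⊥ ∨ K = V := fun K hK hKV => by
    by_cases h : K = ⊥
    · exact Or.inl h
    · exact Or.inr (le_antisymm hKV (hVmin ⟨hK, h⟩ hKV))
  obtain ⟨r, hr, -, hrg, hVc, hVe⟩ := Hall.minimal_normal_isElementaryAbelian hV1 hmin
  obtain rfl : r = p := by
    haveI := Fact.mk hr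
    obtain ⟨j, hj⟩ := IsPGroup.iff_card.1 hrg
    have h := hno V hVn hV1
    rw [hj] at h
    exact ((Nat.prime_dvd_prime_iff_eq hp hr).1 (hp.dvd_of_dvd_pow h)).symm
  have hVc' : ∀ a ∈ V, ∀ b ∈ V, a * b = b * a := fun a ha b hb =>
    congrArg Subtype.val (hVc.is_comm.comm ⟨a, ha⟩ ⟨b, hb⟩)
  by_cases hbig : r ^ 2 ≤ Nat.card V
  · exact elementary_module V hVc' hVe hmin hbig
  obtain ⟨j, hj⟩ := IsPGroup.iff_card.1 hrg
  have hVcard : Nat.card V = r := by
    rw [hj] at hbig ⊢
    have hj1 : j < 2 := by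
      by_contra h
      exact hbig (Nat.pow_le_pow_right hp.pos (by omega))
    have hj0 : j ≠ 0 := fun h => hV1 (Subgroup.card_eq_one.1 (by rw [hj, h, pow_zero]))
    rw [show j = 1 by omega, pow_one]
  have hG3 : ¬ r ^ 3 ∣ Nat.card G := by
    intro h
    refine hsmall V hVn hV1 ?_
    rw [Subgroup.card_eq_card_quotient_mul_card_subgroup V, hVcard, pow_succ] at h
    exact Nat.dvd_of_mul_dvd_mul_right hp.pos h
  -- a maximal normal `p`-subgroup over `V`
  obtain ⟨P, hVP, ⟨hPn, hPg⟩, hPmax⟩ := exists_maximal_ge_of_wellFoundedGT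
    (fun P : Subgroup G => P.Normal ∧ IsPGroup r P) V ⟨hVn, hrg⟩
  haveI := hPn
  obtain ⟨i, hi⟩ := IsPGroup.iff_card.1 hPg
  have hi2 : i ≤ 2 := by
    by_contra h
    refine hG3 ((pow_dvd_pow r (show 3 ≤ i by omega)).trans ?_)
    rw [← hi]
    exact Subgroup.card_subgroup_dvd_card P
  have hPc : ∀ a ∈ P, ∀ b ∈ P, a * b = b * a := by
    have hc : IsMulCommutative P := by
      interval_cases i
      · haveI : Subsingleton P := (Nat.card_eq_one_iff_unique.1 (by simpa using hi)).1
        exact ⟨⟨fun a b => Subsingleton.elim _ _⟩⟩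
      · haveI := isCyclic_of_prime_card (hi.trans (pow_one r))
        exact ⟨⟨fun a b => IsCyclic.commGroup.mul_comm a b⟩⟩
      · exact ⟨⟨fun a b => (IsPGroup.commGroupOfCardEqPrimeSq hi).mul_comm a b⟩⟩
    exact fun a ha b hb => congrArg Subtype.val (hc.is_comm.comm ⟨a, ha⟩ ⟨b, hb⟩)
  set C := Subgroup.centralizer (P : Set G) with hC
  haveI : C.Normal := Subgroup.normal_centralizer
  have hPC : P ≤ C := fun a ha => Subgroup.mem_centralizer_iff.2 fun b hb => hPc b hb a ha
  have hCP : C = P := by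
    by_contra hne
    obtain ⟨q, M, hq, hMn, hPM, hMC, hMcomm, hMpow⟩ :=
      exists_layer_above P C (lt_of_le_of_ne hPC (Ne.symm hne))
    haveI := hMn
    by_cases hqr : q = r
    · subst hqr
      have hMg : IsPGroup q M := by
        intro x
        obtain ⟨k, hk⟩ := hPg ⟨_, hMpow x x.2⟩
        refine ⟨k + 1, Subtype.ext ?_⟩
        rw [SubmonoidClass.coe_pow, pow_succ', pow_mul]
        exact congrArg Subtype.val hk
      exact absurd (hPmax ⟨hMn, hMg⟩ hPM.le) (not_le_of_gt hPM)
    · obtain ⟨T, hTn, hT1, hT⟩ := exists_prime_to_normal hq hqr P M hPM hPg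
        (fun m hm x hx => (Subgroup.mem_centralizer_iff.1 (hMC hm) x hx).symm) hMcomm hMpow
      exact hT (hno T hTn hT1)
  -- `P` has order the square of the prime
  have hVP' : V ≠ P := by
    intro h
    subst h
    -- the quotient acts faithfully on a group of prime order
    have hq : r ∣ Nat.card (G ⧸ V) := by
      rw [Subgroup.card_eq_card_quotient_mul_card_subgroup V, hVcard, sq] at hdvd
      exact Nat.dvd_of_mul_dvd_mul_right hp.pos hdvd
    have hk : (MulAut.conjNormal (H := V) : G →* MulAut V).ker ≤ V := fun g hg => by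
      have : g ∈ C := Subgroup.mem_centralizer_iff.2 fun b hb => by
        have := congrArg (fun φ : MulAut V => ((φ ⟨b, hb⟩ : V) : G)) (MonoidHom.mem_ker.1 hg)
        change g * b * g⁻¹ = b at this
        exact (mul_inv_eq_iff_eq_mul.1 this).symm
      rwa [hCP] at this
    haveI := isCyclic_of_prime_card hVcard
    have h1 : r ∣ (MulAut.conjNormal (H := V) : G →* MulAut V).ker.index :=
      hq.trans (Subgroup.index_dvd_of_le hk)
    rw [Subgroup.index_ker] at h1
    have h2 := h1.trans (Subgroup.card_subgroup_dvd_card _)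
    rw [IsCyclic.card_mulAut, hVcard, Nat.totient_prime hp] at h2
    have h3 := hp.two_le
    have := Nat.le_of_dvd (by omega) h2
    omega
  have hP2 : Nat.card P = r ^ 2 := by
    rw [hi]
    rcases (show i < 2 ∨ i = 2 by omega) with h | h
    · exfalso
      refine hVP' (Subgroup.eq_of_le_of_card_ge hVP ?_)
      rw [hi, hVcard]
      exact le_of_le_of_eq (Nat.pow_le_pow_right hp.pos (show i ≤ 1 by omega)) (pow_one r)
    · rw [h]
  have hquot : ¬ r ∣ Nat.card (G ⧸ P) := by
    intro h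
    refine hG3 ?_
    rw [Subgroup.card_eq_card_quotient_mul_card_subgroup P, hP2, pow_succ', mul_comm]
    exact Nat.mul_dvd_mul_left _ h |>.trans (by rw [mul_comm])
  have habel : ∀ a b : G ⧸ P, a * b = b * a := by
    intro a b
    obtain ⟨g, rfl⟩ := QuotientGroup.mk_surjective a
    obtain ⟨h, rfl⟩ := QuotientGroup.mk_surjective b
    haveI := isCyclic_of_prime_card hVcard
    haveI hbar : (P.map (QuotientGroup.mk' V)).Normal :=
      hPn.map _ (QuotientGroup.mk'_surjective V)
    haveI : IsCyclic (P.map (QuotientGroup.mk' V)) := by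
      refine isCyclic_of_prime_card (p := r) ?_
      rw [← Subgroup.relIndex_ker (f := QuotientGroup.mk' V), QuotientGroup.ker_mk']
      refine Nat.eq_of_mul_eq_mul_left hp.pos ?_
      have e := Subgroup.card_mul_index (V.subgroupOf P)
      rw [Nat.card_congr (Subgroup.subgroupOfEquivOfLe hVP).toEquiv, hVcard, hP2, sq] at e
      exact e
    set c := ⁅g, h⁆ with hc
    have hcV : ∀ y ∈ V, c * y = y * c := by
      intro y hy
      have h1 := conj_comm_of_cyclic (N := V) g h
        ((inferInstance : V.Normal).conj_mem y hy (g⁻¹ * h⁻¹))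
      have e : g * (h * (g⁻¹ * h⁻¹ * y * (g⁻¹ * h⁻¹)⁻¹) * h⁻¹) * g⁻¹ = c * y * c⁻¹ := by
        rw [hc, commutatorElement_def]; group
      have e2 : h * (g * (g⁻¹ * h⁻¹ * y * (g⁻¹ * h⁻¹)⁻¹) * g⁻¹) * h⁻¹ = y := by group
      rw [e, e2] at h1
      exact mul_inv_eq_iff_eq_mul.1 h1
    have hcP : ∀ y ∈ P, (c * y * c⁻¹) * y⁻¹ ∈ V := by
      intro y hy
      have hy' : QuotientGroup.mk' V ((g⁻¹ * h⁻¹) * y * (g⁻¹ * h⁻¹)⁻¹) ∈
          P.map (QuotientGroup.mk' V) := Subgroup.mem_map_of_mem _ (hPn.conj_mem y hy _)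
      have h1 := conj_comm_of_cyclic (QuotientGroup.mk' V g) (QuotientGroup.mk' V h) hy'
      replace h1 : QuotientGroup.mk' V (g * (h * (g⁻¹ * h⁻¹ * y * (g⁻¹ * h⁻¹)⁻¹) * h⁻¹) * g⁻¹) =
          QuotientGroup.mk' V (h * (g * (g⁻¹ * h⁻¹ * y * (g⁻¹ * h⁻¹)⁻¹) * g⁻¹) * h⁻¹) := by
        simpa only [map_mul, map_inv] using h1
      simp only [QuotientGroup.mk'_apply] at h1
      have e : g * (h * (g⁻¹ * h⁻¹ * y * (g⁻¹ * h⁻¹)⁻¹) * h⁻¹) * g⁻¹ = c * y * c⁻¹ := by
        rw [hc, commutatorElement_def]; group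
      have e2 : h * (g * (g⁻¹ * h⁻¹ * y * (g⁻¹ * h⁻¹)⁻¹) * g⁻¹) * h⁻¹ = y := by group
      rw [e, e2] at h1
      rw [← QuotientGroup.eq_one_iff, QuotientGroup.mk_mul, QuotientGroup.mk_inv, h1, mul_inv_cancel]
    have hcr : c ^ r ∈ C := by
      refine Subgroup.mem_centralizer_iff.2 fun y hy => ?_
      set t := (c * y * c⁻¹) * y⁻¹ with ht
      have hstep : ∀ k : ℕ, c ^ k * y * (c ^ k)⁻¹ = t ^ k * y := by
        intro k
        induction k with
        | zero => simp
        | succ k ihk =>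
          calc c ^ (k + 1) * y * (c ^ (k + 1))⁻¹ = c * (c ^ k * y * (c ^ k)⁻¹) * c⁻¹ := by
                rw [pow_succ']; group
            _ = (c * t ^ k * c⁻¹) * (c * y * c⁻¹) := by rw [ihk]; group
            _ = t ^ k * (t * y) := by
                rw [hcV _ (V.pow_mem (hcP y hy) k), mul_inv_cancel_right]
                congr 1
                rw [ht]
                group
            _ = _ := by rw [pow_succ, mul_assoc (t ^ k)]
      have h1 := hstep r
      rw [hVe _ (hcP y hy), one_mul] at h1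
      exact (mul_inv_eq_iff_eq_mul.1 h1).symm
    rw [hCP, ← QuotientGroup.eq_one_iff, QuotientGroup.mk_pow] at hcr
    have hone : (c : G ⧸ P) = 1 := by
      by_contra h1
      exact hquot ((orderOf_eq_prime hcr h1) ▸ orderOf_dvd_natCard (c : G ⧸ P))
    rw [hc, ← QuotientGroup.mk'_apply, map_commutatorElement,
      commutatorElement_eq_one_iff_mul_comm] at hone
    exact hone
  have h1 := card_quot_add_cls_le P
  have h2 := card_sub_one_le_cls_mul P hPc
  rw [card_conjClasses_of_comm habel] at h1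
  rw [hP2] at h2
  refine le_trans (of_prod (x := Nat.card (G ⧸ P)) (y := cls P) ?_) (Nat.mul_le_mul_left _ h1)
  calc 2401 * r ^ 2 ≤ 14400 * (r ^ 2 - 1) := by
        have : 2 ^ 2 ≤ r ^ 2 := Nat.pow_le_pow_left hp.two_le 2
        omega
    _ ≤ _ := by rw [mul_comm (Nat.card (G ⧸ P))]; exact Nat.mul_le_mul_left _ h2

end Cfsg.Agent.ClassNumber
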